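import Groth.Agent.AlphaExt.One
import Groth.Agent.GaExtP.LocalHom
import Mathlib.Algebra.Homology.DerivedCategory.Ext.ExactSequences

/-!
# Extensions of `α_{p^n}` by the multiplicative group
-/

set_option autoImplicit false

universe u

open CategoryTheory CategoryTheory.Limits AlgebraicGeometry Opposite Abelian
open scoped CategoryTheory.MonObj

noncomputable section

namespace Groth.Agent.AlphaExt

open Groth.Agent Groth.Agent.Adeq2Lib Groth.Agent.Adeq2Lib.AffVan Groth.Agent.FppfPic
  Groth.Agent.GaExtP Groth.Agent.GrpSchLib.AffineHopf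

variable {p : ℕ} [Fact p.Prime] {R : Type u} [CommRing R] [CharP R p]

/-- The inclusion of `α_p`. -/
abbrev inclA (p : ℕ) [Fact p.Prime] (n : ℕ) (R : Type u) [CommRing R] [CharP R p] :
    alpha p 1 R ⟶ alpha p (n + 1) R :=
  spMap ((AlphaPn.restrict p (n + 1) R (Nat.le_add_left 1 n) : _ →ₐc[R] _) : _ →ₐ[R] _)

/-- The Frobenius of `α_{p^(n+1)}`. -/
abbrev frobA (p : ℕ) [Fact p.Prime] (n : ℕ) (R : Type u) [CommRing R] [CharP R p] :
    alpha p (n + 1) R ⟶ alpha p n R :=
  spMap ((AlphaPn.frob p n R : _ →ₐc[R] _) : _ →ₐ[R] _)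

theorem coordA_spMap {m n : ℕ} (φ : AlphaPn.A p n R →ₐ[R] AlphaPn.A p m R) {T : Over (base R)}
    (g : T ⟶ alpha p m R) : coordA (g ≫ spMap φ) = thA g (φ (AlphaPn.x p n R)) := by
  rw [coordA_comp]
  refine congrArg g.left.appTop ?_
  exact (ConcreteCategory.congr_hom (Scheme.ΓSpecIso_inv_naturality
    (CommRingCat.ofHom φ.toRingHom)) (AlphaPn.x p n R)).symm

theorem coordA_incl {n : ℕ} {T : Over (base R)} (g : T ⟶ alpha p 1 R) :
    coordA (g ≫ inclA p n R) = coordA g := by
  rw [coordA_spMap]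
  exact congrArg (thA g) (AlphaPn.restrict_x p (n + 1) R (Nat.le_add_left 1 n))

theorem coordA_frob {n : ℕ} {T : Over (base R)} (g : T ⟶ alpha p (n + 1) R) :
    coordA (g ≫ frobA p n R) = coordA g ^ p := by
  rw [coordA_spMap]
  exact (congrArg (thA g) (AlphaPn.frob_x p n R)).trans (map_pow _ _ _)

theorem incl_frob (n : ℕ) : inclA p n R ≫ frobA p n R = 1 := by
  refine coordA_injective ?_
  rw [coordA_frob, ← Category.id_comp (inclA p n R), coordA_incl, coordA_one]
  have h := coordA_pow (𝟙 (alpha p 1 R))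
  rwa [pow_one] at h

theorem exists_incl_eq {n : ℕ} {T : Over (base R)} (g : T ⟶ alpha p (n + 1) R)
    (h : g ≫ frobA p n R = 1) : ∃ g' : T ⟶ alpha p 1 R, g' ≫ inclA p n R = g := by
  have h0 : coordA g ^ (p ^ 1) = 0 := by
    rw [pow_one, ← coordA_frob, h, coordA_one]
  letI : Algebra R Γ(T.left, ⊤) := (strT T).hom.toAlgebra
  obtain ⟨θ, hθ⟩ : ∃ θ : A1 p R →ₐ[R] Γ(T.left, ⊤), θ (AlphaPn.x p 1 R) = coordA g :=
    ⟨AlphaPn.lift p 1 R (coordA g) h0, AlphaPn.lift_x _ _⟩
  obtain ⟨m, hm⟩ := exists_factor (p := p) (n := 1) θ.toRingHom (RingHom.ext fun r => θ.commutes r)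
  exact ⟨m ≫ aPt (AlphaPn.x p 1 R) (AlphaPn.x_pow p 1 R),
    coordA_injective (by rw [coordA_incl, hm]; exact hθ)⟩

theorem incl_injective {n : ℕ} {T : Over (base R)} {g g' : T ⟶ alpha p 1 R}
    (h : g ≫ inclA p n R = g' ≫ inclA p n R) : g = g' :=
  coordA_injective (by rw [← coordA_incl (n := n) g, h, coordA_incl])

theorem isCov_frob (n : ℕ) : IsCov (AlphaPn.frobAlg p n R).toRingHom := by
  classical
  let q : Polynomial (AlphaPn.A p n R) := Polynomial.X ^ p - Polynomial.C (AlphaPn.x p n R)
  have hp : p.Prime := Fact.out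
  haveI : Nontrivial R := CharP.nontrivial_of_char_ne_one hp.ne_one
  haveI : Nontrivial (AlphaPn.A p n R) := CharP.nontrivial_of_char_ne_one (v := p) hp.ne_one
  have hmon : q.Monic := Polynomial.monic_X_pow_sub_C _ hp.ne_zero
  haveI : Module.Free (AlphaPn.A p n R) (AdjoinRoot q) := hmon.free_adjoinRoot
  haveI : Module.Finite (AlphaPn.A p n R) (AdjoinRoot q) := hmon.finite_adjoinRoot
  haveI : Nonempty (Fin (AdjoinRoot.powerBasis' hmon).dim) := ⟨⟨0, by
    rw [AdjoinRoot.powerBasis'_dim, Polynomial.natDegree_X_pow_sub_C]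
    exact hp.pos⟩⟩
  haveI : Nontrivial (AdjoinRoot q) := (AdjoinRoot.powerBasis' hmon).basis.repr.toEquiv.nontrivial
  have hψ : IsCov (AdjoinRoot.of q) := by
    refine ⟨?_, ?_⟩
    · rw [← AdjoinRoot.algebraMap_eq q, RingHom.faithfullyFlat_algebraMap_iff]
      infer_instance
    · rw [← AdjoinRoot.algebraMap_eq q, RingHom.finitePresentation_algebraMap]
      exact inferInstanceAs (Algebra.FinitePresentation (AlphaPn.A p n R) (AdjoinRoot q))
  let φ : AdjoinRoot q →+* AlphaPn.A p (n + 1) R :=
    AdjoinRoot.lift (AlphaPn.frobAlg p n R).toRingHom (AlphaPn.x p (n + 1) R) (by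
      rw [Polynomial.eval₂_sub, Polynomial.eval₂_X_pow, Polynomial.eval₂_C, sub_eq_zero]
      exact (AlphaPn.frobAlg_x p n R).symm)
  have hroot : AdjoinRoot.root q ^ p = AdjoinRoot.of q (AlphaPn.x p n R) := by
    have h0 : AdjoinRoot.mk q q = 0 := AdjoinRoot.mk_self
    rw [map_sub, map_pow, AdjoinRoot.mk_X, AdjoinRoot.mk_C, sub_eq_zero] at h0
    exact h0
  have hr : AdjoinRoot.root q ^ (p ^ (n + 1)) = 0 := by
    rw [pow_succ', pow_mul, hroot, ← map_pow, AlphaPn.x_pow, map_zero]
  let ψ := AlphaPn.lift p (n + 1) R (AdjoinRoot.root q) hr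
  have e1 : ∀ z, φ (ψ z) = z := fun z => by
    obtain ⟨P, rfl⟩ := AlphaPn.mk_surjective p (n + 1) R z
    refine DFunLike.congr_fun (Polynomial.ringHom_ext
      (f := (φ.comp ψ.toRingHom).comp (AlphaPn.mk p (n + 1) R).toRingHom)
      (g := (AlphaPn.mk p (n + 1) R).toRingHom) (fun r => ?_) ?_) P
    · show φ (ψ (AlphaPn.mk p (n + 1) R (algebraMap R (Polynomial R) r))) =
        AlphaPn.mk p (n + 1) R (algebraMap R (Polynomial R) r)
      rw [AlgHom.commutes, AlgHom.commutes, IsScalarTower.algebraMap_apply R (AlphaPn.A p n R) (AdjoinRoot q),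
        AdjoinRoot.algebraMap_eq]
      exact (AdjoinRoot.lift_of _).trans ((AlphaPn.frobAlg p n R).commutes r)
    · show φ (ψ (AlphaPn.mk p (n + 1) R Polynomial.X)) = AlphaPn.mk p (n + 1) R Polynomial.X
      rw [AlphaPn.mk_X, AlphaPn.lift_x]
      exact AdjoinRoot.lift_root _
  have e2 : ∀ z, ψ (φ z) = z := fun z => by
    obtain ⟨P, rfl⟩ := AdjoinRoot.mk_surjective z
    refine DFunLike.congr_fun (Polynomial.ringHom_ext
      (f := (ψ.toRingHom.comp φ).comp (AdjoinRoot.mk q)) (g := AdjoinRoot.mk q) (fun a => ?_) ?_) P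
    · obtain ⟨P₀, rfl⟩ := AlphaPn.mk_surjective p n R a
      refine DFunLike.congr_fun (Polynomial.ringHom_ext
        (f := (((ψ.toRingHom.comp φ).comp (AdjoinRoot.mk q)).comp Polynomial.C).comp
          (AlphaPn.mk p n R).toRingHom)
        (g := ((AdjoinRoot.mk q).comp Polynomial.C).comp (AlphaPn.mk p n R).toRingHom) (fun r => ?_) ?_) P₀
      · show ψ (φ (AdjoinRoot.mk q (Polynomial.C (AlphaPn.mk p n R (algebraMap R (Polynomial R) r))))) =
          AdjoinRoot.mk q (Polynomial.C (AlphaPn.mk p n R (algebraMap R (Polynomial R) r)))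
        rw [AlgHom.commutes, AdjoinRoot.mk_C,
          show φ (AdjoinRoot.of q (algebraMap R (AlphaPn.A p n R) r)) = algebraMap R _ r from
            (AdjoinRoot.lift_of _).trans ((AlphaPn.frobAlg p n R).commutes r),
          AlgHom.commutes]
        rfl
      · show ψ (φ (AdjoinRoot.mk q (Polynomial.C (AlphaPn.mk p n R Polynomial.X)))) =
          AdjoinRoot.mk q (Polynomial.C (AlphaPn.mk p n R Polynomial.X))
        rw [AlphaPn.mk_X, AdjoinRoot.mk_C,
          show φ (AdjoinRoot.of q (AlphaPn.x p n R)) = AlphaPn.x p (n + 1) R ^ p from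
            (AdjoinRoot.lift_of _).trans (AlphaPn.frobAlg_x p n R),
          map_pow, AlphaPn.lift_x, hroot]
    · show ψ (φ (AdjoinRoot.mk q Polynomial.X)) = AdjoinRoot.mk q Polynomial.X
      rw [AdjoinRoot.mk_X, show φ (AdjoinRoot.root q) = AlphaPn.x p (n + 1) R from AdjoinRoot.lift_root _,
        AlphaPn.lift_x]
  have hb : Function.Bijective φ := Function.bijective_iff_has_inverse.2 ⟨ψ, e2, e1⟩
  have hφ : IsCov φ := ⟨RingHom.FaithfullyFlat.of_bijective hb,
    RingHom.FinitePresentation.of_bijective hb⟩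
  have he : φ.comp (AdjoinRoot.of q) = (AlphaPn.frobAlg p n R).toRingHom :=
    RingHom.ext fun a => by
      show φ (AdjoinRoot.of q a) = _
      exact AdjoinRoot.lift_of _
  rw [← he]
  exact hφ.comp hψ

theorem locallySurjective_frob (n : ℕ) :
    Sheaf.IsLocallySurjective (CGrpSh.ptsMap Scheme.fppfPrecoverage (frobA p n R)) := by
  refine ⟨@fun T z => ?_⟩
  let y : T ⟶ alpha p n R := Additive.toMul (ULift.down z)
  let q : pullback y.left (frobA p n R).left ⟶ T.left := pullback.fst _ _
  have hq : Sieve.generate (Presieve.singleton q) ∈ Scheme.fppfPrecoverage.toGrothendieck T.left := by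
    obtain ⟨h1, h2⟩ := isCov_frob (p := p) (R := R) n
    obtain ⟨hfl, hsu⟩ := (flat_and_surjective_SpecMap_iff
      (CommRingCat.ofHom (AlphaPn.frobAlg p n R).toRingHom)).2 h1
    haveI : Flat (frobA p n R).left := hfl
    haveI : Surjective (frobA p n R).left := hsu
    haveI : LocallyOfFinitePresentation (frobA p n R).left := by
      show LocallyOfFinitePresentation (Spec.map (CommRingCat.ofHom (AlphaPn.frobAlg p n R).toRingHom))
      rw [HasRingHomProperty.Spec_iff (P := @LocallyOfFinitePresentation)]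
      exact h2
    rw [← Presieve.ofArrows_pUnit.{u, u, u + 1} q]
    refine Precoverage.generate_mem_toGrothendieck
      (J := Scheme.precoverage (Pfppf : MorphismProperty Scheme.{u})) ?_
    rw [Scheme.ofArrows_mem_precoverage_iff]
    refine ⟨fun x => ?_, fun _ => ⟨inferInstance, inferInstance⟩⟩
    obtain ⟨w, hw⟩ := (inferInstance : Surjective q).surj x
    exact ⟨PUnit.unit, w, hw⟩
  refine GrothendieckTopology.superset_covering _ ?_
    (GrothendieckTopology.overEquiv_symm_mem_over _ T _ hq)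
  intro W g hg
  rw [Sieve.overEquiv_symm_iff] at hg
  obtain ⟨_, h, _, ⟨⟩, e⟩ := hg
  have hw : (h ≫ pullback.snd y.left (frobA p n R).left) ≫ (alpha p (n + 1) R).hom = W.hom := by
    rw [← Over.w (frobA p n R), Category.assoc,
      ← reassoc_of% (pullback.condition (f := y.left) (g := (frobA p n R).left)), Over.w y,
      ← Over.w g, ← e, Category.assoc]
  refine ⟨ULift.up (Additive.ofMul (Over.homMk (h ≫ pullback.snd y.left (frobA p n R).left) hw)), ?_⟩
  refine ULift.ext _ _ (congrArg Additive.ofMul (Over.OverMorphism.ext ?_))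
  show (h ≫ pullback.snd y.left (frobA p n R).left) ≫ (frobA p n R).left = g.left ≫ y.left
  rw [← e, Category.assoc, ← pullback.condition, Category.assoc]

theorem shortExact_seq (n : ℕ) :
    (CGrpSh.seq Scheme.fppfPrecoverage (inclA p n R) (frobA p n R) (incl_frob n)).ShortExact := by
  classical
  have hmono : Mono (CGrpSh.ptsMap Scheme.fppfPrecoverage (inclA p n R)) := by
    haveI : Mono ((sheafToPresheaf _ _).map (CGrpSh.ptsMap Scheme.fppfPrecoverage (inclA p n R))) := by
      refine @NatTrans.mono_of_mono_app _ _ _ _ _ _ _ fun T => ?_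
      rw [AddCommGrpCat.mono_iff_injective]
      intro x y hxy
      exact ULift.ext _ _ (congrArg Additive.ofMul (incl_injective
        (congrArg (fun z => Additive.toMul (ULift.down z)) hxy)))
    exact (sheafToPresheaf _ _).mono_of_mono_map this
  have hepi : Epi (CGrpSh.ptsMap Scheme.fppfPrecoverage (frobA p n R)) :=
    (Sheaf.isLocallySurjective_iff_epi' (A := AddCommGrpCat.{u + 1}) _).1 (locallySurjective_frob n)
  refine ShortComplex.ShortExact.mk' (ShortComplex.exact_of_f_is_kernel _ ?_) hmono hepi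
  have hk : ∀ {A : BigSite.Ab Scheme.fppfPrecoverage (base R)} (g : A ⟶ ptsA p (n + 1) R),
      g ≫ CGrpSh.ptsMap Scheme.fppfPrecoverage (frobA p n R) = 0 →
      ∀ (T : (Over (base R))ᵒᵖ) (a : A.obj.obj T), ∃ m : T.unop ⟶ alpha p 1 R,
        m ≫ inclA p n R = Additive.toMul (ULift.down (g.hom.app T a)) := fun g hg T a => by
    refine exists_incl_eq _ ?_
    exact congrArg (fun φ : _ ⟶ ptsA p n R => Additive.toMul (ULift.down (φ.hom.app T a))) hg
  choose m hm using @hk
  refine KernelFork.IsLimit.ofι _ _ (fun {A} g hg => ⟨{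
      app := fun T => AddCommGrpCat.ofHom
        { toFun := fun a => ULift.up (Additive.ofMul (m g hg T a))
          map_zero' := ULift.ext _ _ (congrArg Additive.ofMul (incl_injective (n := n) (by
            rw [hm, map_zero]
            exact (MonObj.one_comp (inclA p n R)).symm)))
          map_add' := fun a b => ULift.ext _ _ (congrArg Additive.ofMul (incl_injective (n := n) (by
            refine (hm g hg T (a + b)).trans ?_
            refine Eq.trans ?_ (MonObj.mul_comp _ _ _).symm
            refine Eq.trans ?_ (congrArg₂ (· * ·) (hm g hg T a).symm (hm g hg T b).symm)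
            exact congrArg (fun z => Additive.toMul (ULift.down z)) (map_add (g.hom.app T).hom a b)))) }
      naturality := fun T T' f => AddCommGrpCat.ext fun a => ULift.ext _ _
        (congrArg Additive.ofMul (incl_injective (n := n) (by
          refine (hm g hg T' _).trans ?_
          refine Eq.trans ?_ (Category.assoc _ _ _).symm
          refine Eq.trans ?_ (congrArg (f.unop ≫ ·) (hm g hg T a)).symm
          exact congrArg (fun z => Additive.toMul (ULift.down z))
            (ConcreteCategory.congr_hom (g.hom.naturality f) a)))) }⟩)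
    (fun g hg => Sheaf.hom_ext (NatTrans.ext (funext fun T => AddCommGrpCat.ext fun a =>
      ULift.ext _ _ (congrArg Additive.ofMul (hm g hg T a)))))
    fun g hg b hb => Sheaf.hom_ext (NatTrans.ext (funext fun T => AddCommGrpCat.ext fun a =>
      ULift.ext _ _ (congrArg Additive.ofMul (incl_injective (n := n) ((congrArg
        (fun φ : _ ⟶ ptsA p (n + 1) R => Additive.toMul (ULift.down (φ.hom.app T a))) hb).trans
          (hm g hg T a).symm)))))

theorem isZero_ptsA_zero : IsZero (ptsA p 0 R) := by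
  refine (IsZero.iff_id_eq_zero _).2 (Sheaf.hom_ext (NatTrans.ext (funext fun T =>
    AddCommGrpCat.ext fun z => ULift.ext _ _ (congrArg Additive.ofMul (coordA_injective ?_)))))
  have h := coordA_pow (Additive.toMul (ULift.down z))
  rw [pow_zero, pow_one] at h
  exact h.trans coordA_one.symm

theorem subsingleton_ext_alpha (hF : Function.Surjective (frobenius R p)) :
    ∀ n, Subsingleton (Ext (ptsA p n R) (gm (base R)) 1)
  | 0 => subsingleton_of_forall_eq 0 fun x => by
    rw [← Ext.mk₀_id_comp x, (IsZero.iff_id_eq_zero _).1 (isZero_ptsA_zero (p := p) (R := R)),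
      Ext.mk₀_zero, Ext.zero_comp]
  | n + 1 => subsingleton_of_forall_eq 0 fun x => by
    haveI := subsingleton_ext_alpha_one hF (p := p) (R := R)
    have h0 : (Ext.mk₀ (CGrpSh.ptsMap Scheme.fppfPrecoverage (inclA p n R))).comp x (zero_add 1) =
        (0 : Ext (ptsA p 1 R) (gm (base R)) 1) := Subsingleton.elim _ _
    obtain ⟨x₁, hx₁⟩ := Ext.contravariant_sequence_exact₂ (shortExact_seq (p := p) (R := R) n)
      (gm (base R)) x h0
    have e : x₁ = 0 := @Subsingleton.elim _ (subsingleton_ext_alpha hF n) x₁ 0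
    rw [← hx₁, e, Ext.comp_zero]
    rfl

end Groth.Agent.AlphaExt

end
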