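import Mathlib.Algebra.CharP.Frobenius
import Mathlib.Algebra.CharP.Invertible
import Mathlib.Algebra.MvPolynomial.PDeriv
import Mathlib.Algebra.Polynomial.Derivation
import Mathlib.Algebra.BigOperators.Intervals
import Mathlib.Data.Nat.Factorial.Basic
import Mathlib.Data.Nat.Prime.Factorial
import Mathlib.NumberTheory.Wilson
import Mathlib.RingTheory.MvPolynomial.Ideal
import Mathlib.RingTheory.Nilpotent.Lemmas
import Mathlib.RingTheory.Derivation.Basic

/-!
# Multiplicative symmetric cocycles on `α_p` are coboundaries when Frobenius is surjective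
-/

set_option autoImplicit false

universe u v

open MvPolynomial

noncomputable section

namespace Groth.Agent.AlphaExt

variable (p : ℕ) (R : Type u) [CommRing R] (k : ℕ)

/-- The ideal of the `p`-th powers of the variables. -/
abbrev tIdeal : Ideal (MvPolynomial (Fin k) R) := Ideal.span (Set.range fun i => X i ^ p)

/-- The truncated polynomial ring. -/
abbrev Tr : Type u := MvPolynomial (Fin k) R ⧸ tIdeal p R k

/-- The quotient map. -/
abbrev tq : MvPolynomial (Fin k) R →ₐ[R] Tr p R k := Ideal.Quotient.mkₐ R (tIdeal p R k)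

/-- The variables. -/
abbrev tv (i : Fin k) : Tr p R k := tq p R k (X i)

variable {p R k}

theorem tq_surjective : Function.Surjective (tq p R k) := Ideal.Quotient.mkₐ_surjective R _

theorem tq_eq_zero {P : MvPolynomial (Fin k) R} :
    tq p R k P = 0 ↔ ∀ e ∈ P.support, ∃ i, p ≤ e i := by
  have h : tIdeal p R k =
      Ideal.span ((fun e => monomial e (1 : R)) '' (Set.range fun i : Fin k => Finsupp.single i p)) := by
    rw [← Set.range_comp]
    refine congrArg Ideal.span (congrArg Set.range (funext fun i => ?_))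
    exact X_pow_eq_monomial
  rw [Ideal.Quotient.mkₐ_eq_mk, Ideal.Quotient.eq_zero_iff_mem, h, mem_ideal_span_monomial_image]
  refine forall₂_congr fun e _ => ?_
  constructor
  · rintro ⟨_, ⟨i, rfl⟩, hi⟩
    exact ⟨i, by simpa using hi i⟩
  · rintro ⟨i, hi⟩
    exact ⟨_, ⟨i, rfl⟩, Finsupp.single_le_iff.2 hi⟩

theorem tv_pow (i : Fin k) : tv p R k i ^ p = 0 := by
  rw [← map_pow, Ideal.Quotient.mkₐ_eq_mk, Ideal.Quotient.eq_zero_iff_mem]
  exact Ideal.subset_span ⟨i, rfl⟩

/-- The maps out of the truncated polynomial ring. -/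
def tLift {C : Type v} [CommRing C] [Algebra R C] (v : Fin k → C) (hv : ∀ i, v i ^ p = 0) :
    Tr p R k →ₐ[R] C :=
  Ideal.Quotient.liftₐ _ (MvPolynomial.aeval v) (by
    intro P hP
    refine (Ideal.span_le (I := RingHom.ker (MvPolynomial.aeval v).toRingHom)).2 ?_ hP
    rintro _ ⟨i, rfl⟩
    show MvPolynomial.aeval v (X i ^ p) = 0
    rw [map_pow, aeval_X, hv])

theorem tLift_tq {C : Type v} [CommRing C] [Algebra R C] (v : Fin k → C) (hv : ∀ i, v i ^ p = 0)
    (P : MvPolynomial (Fin k) R) : tLift v hv (tq p R k P) = MvPolynomial.aeval v P := rfl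

theorem tLift_tv {C : Type v} [CommRing C] [Algebra R C] (v : Fin k → C) (hv : ∀ i, v i ^ p = 0)
    (i : Fin k) : tLift v hv (tv p R k i) = v i :=
  (tLift_tq v hv (X i)).trans (aeval_X v i)

theorem tr_algHom_ext {C : Type v} [CommRing C] [Algebra R C] {f g : Tr p R k →ₐ[R] C}
    (h : ∀ i, f (tv p R k i) = g (tv p R k i)) : f = g :=
  Ideal.Quotient.algHom_ext R (MvPolynomial.algHom_ext h)

variable [hp : Fact p.Prime] [CharP R p]

omit hp in
theorem natCast_tr : (p : Tr p R k) = 0 := by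
  rw [← map_natCast (algebraMap R (Tr p R k)), CharP.cast_eq_zero, map_zero]

variable (p R k) in
omit hp in
theorem pderiv_mem (j : Fin k) (P : MvPolynomial (Fin k) R) (hP : tq p R k P = 0) :
    tq p R k (pderiv j P) = 0 := by
  rw [Ideal.Quotient.mkₐ_eq_mk, Ideal.Quotient.eq_zero_iff_mem] at hP ⊢
  induction hP using Submodule.span_induction with
  | mem x hx =>
    obtain ⟨i, rfl⟩ := hx
    rw [Derivation.leibniz_pow]
    rw [← Nat.cast_smul_eq_nsmul (MvPolynomial (Fin k) R), CharP.cast_eq_zero, zero_smul]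
    exact zero_mem _
  | zero => rw [map_zero]; exact zero_mem _
  | add x y _ _ hx hy => rw [map_add]; exact add_mem hx hy
  | smul a x hx hx' =>
    rw [smul_eq_mul, pderiv_mul]
    exact add_mem (Ideal.mul_mem_left _ _ hx) (Ideal.mul_mem_left _ _ hx')

variable (p R k) in
/-- The partial derivatives. -/
def tD (j : Fin k) : Derivation R (Tr p R k) (Tr p R k) :=
  Derivation.liftOfSurjective (f := tq p R k) tq_surjective (d := pderiv j) (pderiv_mem p R k j)

omit hp in
theorem tD_tq (j : Fin k) (P : MvPolynomial (Fin k) R) :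
    tD p R k j (tq p R k P) = tq p R k (pderiv j P) :=
  Derivation.liftOfSurjective_apply tq_surjective (pderiv_mem p R k j) P

omit hp in
theorem tD_tv (j i : Fin k) : tD p R k j (tv p R k i) = if i = j then 1 else 0 := by
  rw [tD_tq, pderiv_X, Pi.single_apply]
  split_ifs <;> simp

omit hp in
/-- The chain rule. -/
theorem tD_map {m : ℕ} (φ : Tr p R k →ₐ[R] Tr p R m) (j : Fin m) (w : Tr p R k) :
    tD p R m j (φ w) = ∑ i, φ (tD p R k i w) * tD p R m j (φ (tv p R k i)) := by
  obtain ⟨P, rfl⟩ := tq_surjective w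
  induction P using MvPolynomial.induction_on with
  | C a =>
    have e : tq p R k (MvPolynomial.C a) = algebraMap R _ a := (tq p R k).commutes a
    simp [e, Derivation.map_algebraMap]
  | add P Q hP hQ =>
    simp only [map_add, hP, hQ, add_mul, Finset.sum_add_distrib]
  | mul_X P l hP =>
    have hl : φ (tq p R k P) * tD p R m j (φ (tv p R k l)) =
        ∑ i, φ (tq p R k P) * (φ (tD p R k i (tv p R k l)) * tD p R m j (φ (tv p R k i))) := by
      rw [← Finset.mul_sum, Finset.sum_eq_single l]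
      · rw [tD_tv, if_pos rfl, map_one, one_mul]
      · intro i _ hi
        rw [tD_tv, if_neg (Ne.symm hi), map_zero, zero_mul]
      · exact fun h => absurd (Finset.mem_univ l) h
    simp only [map_mul, Derivation.leibniz, smul_eq_mul, hP, hl, Finset.mul_sum,
      ← Finset.sum_add_distrib, map_add]
    exact Finset.sum_congr rfl fun i _ => by ring

/-- The substitution killing the second variable. -/
abbrev ev0 : Tr p R 2 →ₐ[R] Tr p R 2 :=
  tLift ![tv p R 2 0, 0] (fun i => by
    fin_cases i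
    · exact tv_pow 0
    · exact zero_pow hp.out.ne_zero)

theorem eq_ev0_of_tD_eq_zero (w : Tr p R 2) (hw : tD p R 2 1 w = 0) : w = ev0 w := by
  classical
  obtain ⟨P, rfl⟩ := tq_surjective w
  rw [tLift_tq]
  have hd : tq p R 2 (P - MvPolynomial.aeval (R := R) ![(X 0 : MvPolynomial (Fin 2) R), 0] P) = 0 := by
    rw [tq_eq_zero]
    intro e he
    by_contra hcon
    push_neg at hcon
    rw [mem_support_iff, coeff_sub] at he
    refine he ?_
    have h0 : ∀ e : Fin 2 →₀ ℕ, (MvPolynomial.aeval (R := R) ![(X 0 : MvPolynomial (Fin 2) R), 0] P).coeff e =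
        if e 1 = 0 then P.coeff e else 0 := by
      intro e
      clear he hw hcon
      induction P using MvPolynomial.induction_on' generalizing e with
      | add a b ha hb => simp only [map_add, coeff_add, ha, hb]; split_ifs <;> simp
      | monomial d r =>
        have hd : (MvPolynomial.aeval (R := R) ![(X 0 : MvPolynomial (Fin 2) R), 0]) (monomial d r) =
            if d 1 = 0 then monomial d r else 0 := by
          rw [aeval_monomial, Finsupp.prod_fintype _ _ (fun i => pow_zero _), Fin.prod_univ_two,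
            algebraMap_eq, monomial_eq, Finsupp.prod_fintype _ _ (fun i => pow_zero _), Fin.prod_univ_two]
          simp only [Matrix.cons_val_zero, Matrix.cons_val_one]
          split_ifs with h
          · rw [h, pow_zero, pow_zero]
          · rw [zero_pow h, mul_zero, mul_zero]
        rw [hd]
        by_cases hde : d = e
        · subst hde
          split_ifs with h <;> simp
        · split_ifs <;> simp [coeff_monomial, hde]
    rw [h0]
    split_ifs with h1
    · exact sub_self _
    · rw [sub_zero]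
      obtain ⟨l, hl⟩ : ∃ l, e 1 = l + 1 := Nat.exists_eq_succ_of_ne_zero h1
      have hlt : e 1 < p := hcon 1
      let e' := e - Finsupp.single 1 1
      have he' : e' + Finsupp.single 1 1 = e :=
        tsub_add_cancel_of_le (Finsupp.single_le_iff.2 (by omega))
      have hc : (pderiv (1 : Fin 2) P).coeff e' = 0 := by
        rw [tD_tq, tq_eq_zero] at hw
        by_contra hne
        obtain ⟨i, hi⟩ := hw e' (mem_support_iff.2 hne)
        have h3 : e' i ≤ e i := tsub_le_self
        have := hcon i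
        omega
      rw [coeff_pderiv, he', show e' 1 = l by simp [e', hl]] at hc
      have hu : IsUnit ((l : R) + 1) := by
        rw [← Nat.cast_add_one, CharP.isUnit_natCast_iff hp.out]
        intro h
        have := Nat.le_of_dvd (Nat.succ_pos l) h
        omega
      exact hu.mul_left_eq_zero.1 hc
  rw [map_sub, sub_eq_zero] at hd
  rw [hd]
  refine DFunLike.congr_fun (MvPolynomial.algHom_ext (f := (tq p R 2).comp
    (MvPolynomial.aeval (R := R) ![(X 0 : MvPolynomial (Fin 2) R), 0])) (fun i => ?_)) P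
  fin_cases i <;> simp <;> rfl

omit [CharP R p] in
theorem tv_pow_mul_aeval (q : Polynomial R) :
    tv p R 1 0 ^ (p - 1) * Polynomial.aeval (tv p R 1 0) q =
      tv p R 1 0 ^ (p - 1) * algebraMap R _ (q.eval 0) := by
  obtain ⟨q', hq'⟩ := Polynomial.X_dvd_iff.2 (show (q - Polynomial.C (q.eval 0)).coeff 0 = 0 by
    rw [Polynomial.coeff_sub, Polynomial.coeff_C_zero, Polynomial.coeff_zero_eq_eval_zero, sub_self])
  have h : tv p R 1 0 ^ (p - 1) * tv p R 1 0 = 0 := by
    rw [← pow_succ, Nat.sub_add_cancel hp.out.one_le, tv_pow]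
  have e := congrArg (Polynomial.aeval (tv p R 1 0)) hq'
  rw [map_sub, Polynomial.aeval_C, map_mul, Polynomial.aeval_X] at e
  linear_combination (tv p R 1 0 ^ (p - 1)) * e + Polynomial.aeval (tv p R 1 0) q' * h

theorem factorial_pred : ((p - 1).factorial : R) = -1 := by
  have := congrArg (ZMod.castHom (dvd_refl p) R) (ZMod.wilsons_lemma p)
  rw [map_natCast, map_neg, map_one] at this
  exact this

/-- Logarithmic derivatives on the truncated line. -/
theorem exists_logDeriv (hF : Function.Surjective (frobenius R p)) (g : Tr p R 1) :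
    ∃ (f : Tr p R 1) (b : R), IsUnit f ∧ tD p R 1 0 f = (g + algebraMap R _ b) * f := by
  classical
  let t := tv p R 1 0
  obtain ⟨P, hP⟩ : ∃ P : Polynomial R, Polynomial.aeval t P = g := by
    obtain ⟨Q, rfl⟩ := tq_surjective g
    refine ⟨MvPolynomial.aeval (fun _ => (Polynomial.X : Polynomial R)) Q, ?_⟩
    refine DFunLike.congr_fun (MvPolynomial.algHom_ext (f := (Polynomial.aeval t).comp
      (MvPolynomial.aeval fun _ => (Polynomial.X : Polynomial R))) (g := tq p R 1) fun i => ?_) Q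
    rw [AlgHom.comp_apply, aeval_X, Polynomial.aeval_X, Subsingleton.elim i 0]
  let c : ℕ → R := fun j => P.coeff j
  obtain ⟨r, hr⟩ := hF (c (p - 1))
  rw [frobenius_def] at hr
  -- the exponent
  let H : Polynomial R := Polynomial.C r + ∑ j ∈ Finset.Ioo 0 (p - 1),
    Polynomial.C (c j * Ring.inverse ((j + 1 : ℕ) : R)) * Polynomial.X ^ j
  let G : Polynomial R := Polynomial.X * H
  have hG' : Polynomial.derivative G = Polynomial.C r +
      ∑ j ∈ Finset.Ioo 0 (p - 1), Polynomial.C (c j) * Polynomial.X ^ j := by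
    simp only [G, H, mul_add, Finset.mul_sum, Polynomial.derivative_add, Polynomial.derivative_sum]
    congr 1
    · rw [mul_comm, Polynomial.derivative_C_mul_X]
    · refine Finset.sum_congr rfl fun j hj => ?_
      have hu : IsUnit ((j + 1 : ℕ) : R) := by
        rw [CharP.isUnit_natCast_iff hp.out]
        intro h
        have := Nat.le_of_dvd (Nat.succ_pos j) h
        have := (Finset.mem_Ioo.1 hj).2
        omega
      rw [mul_left_comm, ← pow_succ', Polynomial.derivative_C_mul_X_pow, Nat.add_sub_cancel,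
        mul_assoc (c j), Ring.inverse_mul_cancel _ hu, mul_one]
  let E : Polynomial R := ∑ l ∈ Finset.range p, Polynomial.C (Ring.inverse (l.factorial : R)) * G ^ l
  let f := Polynomial.aeval t E
  have hGt : Polynomial.aeval t G = t * Polynomial.aeval t H := by rw [map_mul, Polynomial.aeval_X]
  have hGp : Polynomial.aeval t G ^ p = 0 := by rw [hGt, mul_pow, tv_pow, zero_mul]
  have hp1 : Finset.range p = Finset.range (p - 1 + 1) := by rw [Nat.sub_add_cancel hp.out.one_le]
  have hfu : IsUnit f := by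
    have hnil : IsNilpotent (Polynomial.aeval t G) := ⟨p, hGp⟩
    have e : f = 1 + ∑ l ∈ (Finset.range p).erase 0,
        algebraMap R _ (Ring.inverse (l.factorial : R)) * Polynomial.aeval t G ^ l := by
      show Polynomial.aeval t E = _
      rw [map_sum, ← Finset.add_sum_erase _ _ (Finset.mem_range.2 hp.out.pos)]
      simp only [map_mul, map_pow, Polynomial.aeval_C, pow_zero, mul_one, Nat.factorial_zero,
        Nat.cast_one, Ring.inverse_one, map_one]
    rw [e]
    refine IsNilpotent.isUnit_one_add (isNilpotent_sum fun l hl => ?_)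
    exact Commute.isNilpotent_mul_left (Commute.all _ _) (hnil.pow_of_pos (Finset.mem_erase.1 hl).1)
  have hEd : Polynomial.derivative E =
      Polynomial.derivative G * (E + G ^ (p - 1)) := by
    have h1 : ∀ l ∈ Finset.range (p - 1), Polynomial.derivative
        (Polynomial.C (Ring.inverse ((l + 1).factorial : R)) * G ^ (l + 1)) =
        Polynomial.C (Ring.inverse (l.factorial : R)) * G ^ l * Polynomial.derivative G := by
      intro l hl
      have hl' := Finset.mem_range.1 hl
      rw [Polynomial.derivative_C_mul, Polynomial.derivative_pow, Nat.add_sub_cancel, ← mul_assoc,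
        ← mul_assoc, ← map_mul]
      congr 3
      have hu1 : IsUnit ((l + 1 : ℕ) : R) := by
        rw [CharP.isUnit_natCast_iff hp.out]
        intro h
        have := Nat.le_of_dvd (Nat.succ_pos l) h
        omega
      have hu2 : IsUnit (l.factorial : R) := by
        rw [CharP.isUnit_natCast_iff hp.out, (Nat.Prime.dvd_factorial hp.out)]
        omega
      obtain ⟨a, ha⟩ := hu1
      obtain ⟨b, hb⟩ := hu2
      rw [Nat.factorial_succ, Nat.cast_mul, ← ha, ← hb, ← Units.val_mul, Ring.inverse_unit,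
        Ring.inverse_unit, ← Units.val_mul, mul_inv_rev, inv_mul_cancel_right]
    show Polynomial.derivative (∑ l ∈ Finset.range p, _) =
      _ * ((∑ l ∈ Finset.range p, _) + _)
    rw [hp1, Polynomial.derivative_sum, Finset.sum_range_succ', Finset.sum_congr rfl h1,
      Finset.sum_range_succ, factorial_pred,
      show Ring.inverse (-1 : R) = -1 by simpa using Ring.inverse_unit (-1 : Rˣ), map_neg, map_one,
      ← Finset.sum_mul]
    simp only [Nat.factorial_zero, Nat.cast_one, Ring.inverse_one, map_one, pow_zero, mul_one,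
      Polynomial.derivative_one, add_zero]
    ring
  refine ⟨f, r - c 0, hfu, ?_⟩
  have hfG : f * Polynomial.aeval t G ^ (p - 1) = Polynomial.aeval t G ^ (p - 1) := by
    have hz : Polynomial.aeval t G * Polynomial.aeval t G ^ (p - 1) = 0 := by
      rw [← pow_succ', Nat.sub_add_cancel hp.out.one_le, hGp]
    show Polynomial.aeval t E * _ = _
    rw [map_sum, Finset.sum_mul, Finset.sum_eq_single 0]
    · simp
    · intro l _ hl
      obtain ⟨l, rfl⟩ := Nat.exists_eq_succ_of_ne_zero hl
      rw [map_mul, map_pow, pow_succ, mul_assoc, mul_assoc, hz, mul_zero, mul_zero]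
    · exact fun h => absurd (Finset.mem_range.2 hp.out.pos) h
  have hkey : Polynomial.aeval t (Polynomial.derivative G) * Polynomial.aeval t G ^ (p - 1) =
      algebraMap R _ (c (p - 1)) * t ^ (p - 1) := by
    rw [hGt, mul_pow, ← map_pow _ H, mul_left_comm, ← map_mul, tv_pow_mul_aeval, mul_comm _ (t ^ (p - 1))]
    congr 2
    rw [Polynomial.eval_mul, Polynomial.eval_pow, hG']
    have e0 : ∀ (v : ℕ → R), Polynomial.eval 0 (∑ j ∈ Finset.Ioo 0 (p - 1),
        Polynomial.C (v j) * Polynomial.X ^ j) = 0 := fun v => by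
      rw [Polynomial.eval_finset_sum]
      refine Finset.sum_eq_zero fun j hj => ?_
      rw [Polynomial.eval_mul, Polynomial.eval_pow, Polynomial.eval_X,
        zero_pow (Finset.mem_Ioo.1 hj).1.ne', mul_zero]
    simp only [H, Polynomial.eval_add, Polynomial.eval_C, e0, add_zero]
    rw [← pow_succ', Nat.sub_add_cancel hp.out.one_le, hr]
  have hg : g = algebraMap R _ (c 0) +
      Polynomial.aeval t (∑ j ∈ Finset.Ioo 0 (p - 1), Polynomial.C (c j) * Polynomial.X ^ j) +
      algebraMap R _ (c (p - 1)) * t ^ (p - 1) := by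
    have hN : p ≤ P.natDegree + 1 + p := Nat.le_add_left _ _
    rw [← hP, Polynomial.aeval_eq_sum_range' (n := P.natDegree + 1 + p) (by omega),
      ← Finset.sum_range_add_sum_Ico _ hN, Finset.sum_eq_zero (s := Finset.Ico p _) fun j hj => by
        obtain ⟨l, rfl⟩ := Nat.exists_eq_add_of_le (Finset.mem_Ico.1 hj).1
        rw [pow_add, tv_pow, zero_mul, smul_zero],
      add_zero, hp1, Finset.sum_range_succ, Finset.range_eq_Ico,
      ← Finset.add_sum_Ioo_eq_sum_Ico (show 0 < p - 1 from Nat.sub_pos_of_lt hp.out.one_lt), map_sum]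
    simp only [pow_zero, Algebra.smul_def, mul_one, map_mul, map_pow, Polynomial.aeval_C,
      Polynomial.aeval_X, c]
  rw [Derivation.map_aeval, tD_tv, if_pos rfl, smul_eq_mul, mul_one, hEd, map_mul, map_add, map_pow,
    hG', map_add, Polynomial.aeval_C, hg, map_sub]
  rw [hG', map_add, Polynomial.aeval_C] at hkey
  linear_combination f * hkey - (algebraMap R (Tr p R 1) r +
    Polynomial.aeval t (∑ j ∈ Finset.Ioo 0 (p - 1), Polynomial.C (c j) * Polynomial.X ^ j)) * hfG

/-- The substitution of one value. -/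
abbrev s1 {m : ℕ} (w : Tr p R m) (hw : w ^ p = 0) : Tr p R 1 →ₐ[R] Tr p R m :=
  tLift (fun _ => w) (fun _ => hw)

/-- The substitution of two values. -/
abbrev s2 {m : ℕ} (a b : Tr p R m) (ha : a ^ p = 0) (hb : b ^ p = 0) : Tr p R 2 →ₐ[R] Tr p R m :=
  tLift ![a, b] (fun i => by fin_cases i <;> assumption)

theorem add_pow_eq_zero {m : ℕ} {a b : Tr p R m} (ha : a ^ p = 0) (hb : b ^ p = 0) :
    (a + b) ^ p = 0 := by
  obtain ⟨r, hr⟩ := (Commute.all a b).exists_add_pow_prime_eq hp.out
  rw [hr, ha, hb, natCast_tr, zero_mul, zero_mul, zero_mul, add_zero, add_zero]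

/-- Symmetric cocycles are coboundaries. -/
theorem exists_trunc_splitting (hF : Function.Surjective (frobenius R p)) (u : (Tr p R 2)ˣ)
    (hsymm : s2 (tv p R 2 1) (tv p R 2 0) (tv_pow 1) (tv_pow 0) u.1 = u.1)
    (hcoc : s2 (tv p R 3 1) (tv p R 3 2) (tv_pow 1) (tv_pow 2) u.1 *
        s2 (tv p R 3 0) (tv p R 3 1 + tv p R 3 2) (tv_pow 0) (add_pow_eq_zero (tv_pow 1) (tv_pow 2)) u.1 =
      s2 (tv p R 3 0 + tv p R 3 1) (tv p R 3 2) (add_pow_eq_zero (tv_pow 0) (tv_pow 1)) (tv_pow 2) u.1 *
        s2 (tv p R 3 0) (tv p R 3 1) (tv_pow 0) (tv_pow 1) u.1) :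
    ∃ f : Tr p R 1, IsUnit f ∧
      s1 (tv p R 2 0 + tv p R 2 1) (add_pow_eq_zero (tv_pow 0) (tv_pow 1)) f =
        s1 (tv p R 2 0) (tv_pow 0) f * s1 (tv p R 2 1) (tv_pow 1) f * u.1 := by
  let L : Tr p R 2 := tD p R 2 1 u.1 * ((u⁻¹ : (Tr p R 2)ˣ) : Tr p R 2)
  have hL : tD p R 2 1 u.1 = L * u.1 := by rw [mul_assoc, Units.inv_mul, mul_one]
  let g : Tr p R 1 := s2 (tv p R 1 0) 0 (tv_pow 0) (zero_pow hp.out.ne_zero) L
  let z0 : Tr p R 3 →ₐ[R] Tr p R 2 := tLift ![tv p R 2 0, tv p R 2 1, 0] (fun i => by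
    fin_cases i
    · exact tv_pow 0
    · exact tv_pow 1
    · exact zero_pow hp.out.ne_zero)
  -- differentiate the cocycle identity in the last variable
  have hchain : ∀ (a b : Tr p R 3) (ha : a ^ p = 0) (hb : b ^ p = 0)
      (α β : Tr p R 3), tD p R 3 2 a = α → tD p R 3 2 b = β →
      tD p R 3 2 (s2 a b ha hb u.1) =
        s2 a b ha hb (tD p R 2 0 u.1) * α + s2 a b ha hb (tD p R 2 1 u.1) * β := by
    intro a b ha hb α β hα hβ
    rw [tD_map, Fin.sum_univ_two, tLift_tv, tLift_tv]
    simp only [Matrix.cons_val_zero, Matrix.cons_val_one, hα, hβ]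
  have d20 : tD p R 3 2 (tv p R 3 0) = 0 := by rw [tD_tv, if_neg (by decide)]
  have d21 : tD p R 3 2 (tv p R 3 1) = 0 := by rw [tD_tv, if_neg (by decide)]
  have d22 : tD p R 3 2 (tv p R 3 2) = 1 := by rw [tD_tv, if_pos rfl]
  have hd := congrArg (tD p R 3 2) hcoc
  rw [Derivation.leibniz, Derivation.leibniz, smul_eq_mul, smul_eq_mul, smul_eq_mul, smul_eq_mul,
    hchain _ _ _ _ 0 1 d21 d22, hchain _ _ _ _ 0 1 d20 (by rw [map_add, d21, d22, zero_add]),
    hchain _ _ _ _ 0 1 (by rw [map_add, d20, d21, zero_add]) d22, hchain _ _ _ _ 0 0 d20 d21] at hd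
  simp only [mul_zero, zero_add, mul_one, hL, map_mul] at hd
  have hz0 : ∀ (a b : Tr p R 3) (ha : a ^ p = 0) (hb : b ^ p = 0) (w : Tr p R 2) (a' b' : Tr p R 2)
      (ha' : a' ^ p = 0) (hb' : b' ^ p = 0), z0 a = a' → z0 b = b' →
      z0 (s2 a b ha hb w) = s2 a' b' ha' hb' w := by
    intro a b ha hb w a' b' ha' hb' e₀ e₁
    refine DFunLike.congr_fun (tr_algHom_ext (f := z0.comp (s2 a b ha hb)) fun i => ?_) w
    rw [AlgHom.comp_apply, tLift_tv, tLift_tv]
    fin_cases i <;> assumption
  have t0 : z0 (tv p R 3 0) = tv p R 2 0 := tLift_tv _ _ 0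
  have t1 : z0 (tv p R 3 1) = tv p R 2 1 := tLift_tv _ _ 1
  have t2 : z0 (tv p R 3 2) = 0 := tLift_tv _ _ 2
  let y0 := s2 (tv p R 2 1) 0 (tv_pow 1) (zero_pow hp.out.ne_zero)
  let xy0 := s2 (tv p R 2 0 + tv p R 2 1) 0 (add_pow_eq_zero (tv_pow 0) (tv_pow 1)) (zero_pow hp.out.ne_zero)
  have hid : s2 (tv p R 2 0) (tv p R 2 1) (tv_pow 0) (tv_pow 1) = AlgHom.id R (Tr p R 2) :=
    tr_algHom_ext fun i => by rw [tLift_tv]; fin_cases i <;> rfl
  have hc0 := congrArg z0 hcoc
  have hd0 := congrArg z0 hd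
  simp only [map_mul, map_add,
    hz0 _ _ (tv_pow 1) (tv_pow 2) _ _ _ (tv_pow 1) (zero_pow hp.out.ne_zero) t1 t2,
    hz0 _ _ (tv_pow 0) (add_pow_eq_zero (tv_pow 1) (tv_pow 2)) _ _ _ (tv_pow 0) (tv_pow 1) t0
      (by rw [map_add, t1, t2, add_zero]),
    hz0 _ _ (add_pow_eq_zero (tv_pow 0) (tv_pow 1)) (tv_pow 2) _ _ _
      (add_pow_eq_zero (tv_pow 0) (tv_pow 1)) (zero_pow hp.out.ne_zero) (by rw [map_add, t0, t1]) t2,
    hz0 _ _ (tv_pow 0) (tv_pow 1) _ _ _ (tv_pow 0) (tv_pow 1) t0 t1, hid, AlgHom.id_apply] at hc0 hd0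
  have hgA : ∀ {m : ℕ} (a : Tr p R m) (ha : a ^ p = 0),
      s1 a ha g = s2 a 0 ha (zero_pow hp.out.ne_zero) L := by
    intro m a ha
    refine DFunLike.congr_fun (tr_algHom_ext (f := (s1 a ha).comp
      (s2 (tv p R 1 0) 0 (tv_pow 0) (zero_pow hp.out.ne_zero))) fun i => ?_) L
    rw [AlgHom.comp_apply, tLift_tv, tLift_tv]
    fin_cases i
    · exact tLift_tv _ _ 0
    · exact map_zero _
  have hgy : y0 L + L = xy0 L := by
    refine ((u.isUnit.map y0).mul u.isUnit).mul_right_cancel ?_
    linear_combination hd0 - (xy0 L) * hc0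
  obtain ⟨f, b, hf, hfd⟩ := exists_logDeriv hF g
  let fX := s1 (tv p R 2 0) (tv_pow 0) f
  let fY := s1 (tv p R 2 1) (tv_pow 1) f
  let fS := s1 (tv p R 2 0 + tv p R 2 1) (add_pow_eq_zero (tv_pow 0) (tv_pow 1)) f
  obtain ⟨vS, hvS⟩ := hf.map (s1 (tv p R 2 0 + tv p R 2 1) (add_pow_eq_zero (tv_pow 0) (tv_pow 1)))
  obtain ⟨w, hwS⟩ : ∃ w : Tr p R 2, w * fS = fX * fY * u.1 :=
    ⟨fX * fY * u.1 * ((vS⁻¹ : (Tr p R 2)ˣ) : Tr p R 2), by
      show _ * s1 _ _ f = _
      rw [← hvS, mul_assoc, Units.inv_mul, mul_one]⟩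
  have hD1 : ∀ (a : Tr p R 2) (ha : a ^ p = 0), tD p R 2 1 (s1 a ha f) =
      (s1 a ha g + algebraMap R _ b) * s1 a ha f * tD p R 2 1 a := by
    intro a ha
    rw [tD_map, Fin.sum_univ_one, tLift_tv, hfd, map_mul, map_add, AlgHom.commutes]
  have hw : tD p R 2 1 w = 0 := by
    have h1 := congrArg (tD p R 2 1) hwS
    simp only [fX, fY, fS] at h1
    rw [Derivation.leibniz, Derivation.leibniz, Derivation.leibniz, smul_eq_mul, smul_eq_mul,
      smul_eq_mul, smul_eq_mul, smul_eq_mul, smul_eq_mul, hD1, hD1, hD1, hgA, hgA, hgA, map_add,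
      tD_tv, tD_tv, if_neg (by decide), if_pos rfl, hL] at h1
    have h2 : fS * tD p R 2 1 w = 0 := by
      linear_combination h1 + (fX * fY * u.1) * hgy -
        (xy0 L + algebraMap R (Tr p R 2) b) * hwS
    exact (hf.map _).mul_right_eq_zero.1 h2
  have hw0 := eq_ev0_of_tD_eq_zero w hw
  let σ : Tr p R 2 →ₐ[R] Tr p R 2 := s2 (tv p R 2 1) (tv p R 2 0) (tv_pow 1) (tv_pow 0)
  have hσf : ∀ (a : Tr p R 2) (ha : a ^ p = 0) (a' : Tr p R 2) (ha' : a' ^ p = 0), σ a = a' →
      σ (s1 a ha f) = s1 a' ha' f := fun a ha a' ha' e =>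
    DFunLike.congr_fun (tr_algHom_ext (f := σ.comp (s1 a ha)) fun i => by
      rw [AlgHom.comp_apply, tLift_tv, tLift_tv, e]) f
  have hσw : σ w = w := by
    refine (hf.map (s1 (tv p R 2 0 + tv p R 2 1) (add_pow_eq_zero (tv_pow 0) (tv_pow 1)))).mul_right_cancel ?_
    have e := congrArg σ hwS
    clear hw hw0
    simp only [fX, fY, fS] at e
    rw [map_mul, map_mul, map_mul, hσf (tv p R 2 0 + tv p R 2 1) _ _
      (add_pow_eq_zero (tv_pow 0) (tv_pow 1)) (by
        rw [map_add, tLift_tv, tLift_tv]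
        simp only [Matrix.cons_val_zero, Matrix.cons_val_one]
        exact add_comm _ _),
      hσf (tv p R 2 0) _ _ (tv_pow 1) (tLift_tv _ _ 0),
      hσf (tv p R 2 1) _ _ (tv_pow 0) (tLift_tv _ _ 1),
      show σ u.1 = u.1 from hsymm] at e
    exact e.trans ((by ring : fY * fX * u.1 = fX * fY * u.1).trans hwS.symm)
  -- hence constant
  let e00 : Tr p R 2 →ₐ[R] R := tLift (fun _ => 0) (fun _ => zero_pow hp.out.ne_zero)
  have hconst : w = algebraMap R _ (e00 w) := by
    have e : ev0.comp (σ.comp ev0) = (Algebra.ofId R (Tr p R 2)).comp e00 := by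
      refine tr_algHom_ext fun i => ?_
      rw [AlgHom.comp_apply, AlgHom.comp_apply, AlgHom.comp_apply, tLift_tv, tLift_tv]
      fin_cases i
      · show ev0 (σ (tv p R 2 0)) = _
        rw [tLift_tv]
        show ev0 (tv p R 2 1) = _
        rw [tLift_tv]
        exact (map_zero _).symm
      · show ev0 (σ 0) = _
        rw [map_zero, map_zero]
        exact (map_zero _).symm
    refine Eq.trans ?_ (DFunLike.congr_fun e w)
    show w = ev0 (σ (ev0 w))
    rw [← hw0, hσw, ← hw0]
  have hwu : IsUnit w := isUnit_of_mul_isUnit_left (hwS ▸ ((hf.map (s1 (tv p R 2 0) (tv_pow 0))).mul (hf.map (s1 (tv p R 2 1) (tv_pow 1)))).mul u.isUnit)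
  obtain ⟨c, hc⟩ : IsUnit (e00 w) := hwu.map e00
  refine ⟨f * algebraMap R _ ((c⁻¹ : Rˣ) : R), hf.mul ((c⁻¹).isUnit.map _), ?_⟩
  rw [map_mul, map_mul, map_mul, AlgHom.commutes, AlgHom.commutes, AlgHom.commutes]
  have e := hwS
  rw [hconst, ← hc] at e
  have h1 : algebraMap R (Tr p R 2) (c : R) * algebraMap R _ ((c⁻¹ : Rˣ) : R) = 1 := by
    rw [← map_mul, Units.mul_inv, map_one]
  linear_combination (algebraMap R (Tr p R 2) ((c⁻¹ : Rˣ) : R) ^ 2) * e -
    (fS * algebraMap R (Tr p R 2) ((c⁻¹ : Rˣ) : R)) * h1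

end Groth.Agent.AlphaExt

end
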