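import Groth.Agent.AlphaExt.Points
import Groth.Agent.AlphaExt.Trunc

/-!
# Extensions of `α_p` by the multiplicative group
-/

set_option autoImplicit false

universe u

open CategoryTheory CategoryTheory.Limits AlgebraicGeometry Opposite Abelian
open scoped CategoryTheory.MonObj

noncomputable section

namespace Groth.Agent.AlphaExt

open Groth.Agent Groth.Agent.Adeq2Lib Groth.Agent.Adeq2Lib.AffVan Groth.Agent.FppfPic
  Groth.Agent.GaExtP Groth.Agent.GrpSchLib.AffineHopf

variable {p : ℕ} [Fact p.Prime] {R : Type u} [CommRing R] [CharP R p]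

/-- The coordinate ring of `α_p`. -/
abbrev A1 (p : ℕ) (R : Type u) [CommRing R] : Type u := AlphaPn.A p 1 R

/-- The sheaf of points of `α_p`. -/
abbrev ptsA (p : ℕ) [Fact p.Prime] (n : ℕ) (R : Type u) [CommRing R] [CharP R p] : AbT (base R) :=
  CGrpSh.pts Scheme.fppfPrecoverage (alpha p n R)

/-- The section of a point. -/
abbrev aSec {n : ℕ} {T : Over (base R)} (g : T ⟶ alpha p n R) : (ptsA p n R).obj.obj (op T) :=
  ULift.up (Additive.ofMul g)

omit [Fact p.Prime] [CharP R p] in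
theorem x_pow_p : AlphaPn.x p 1 R ^ p = 0 := by
  have h := AlphaPn.x_pow p 1 R
  rwa [pow_one] at h

/-- The counit followed by the structure map. -/
abbrev epsA (p : ℕ) (R : Type u) [CommRing R] [Fact p.Prime] [CharP R p] : A1 p R →+* A1 p R :=
  (algebraMap R (A1 p R)).comp (AlphaPn.counitAlg p 1 R).toRingHom

theorem sub_epsA_nilpotent (a : A1 p R) : IsNilpotent (a - epsA p R a) := by
  obtain ⟨P, rfl⟩ := AlphaPn.mk_surjective p 1 R a
  induction P using Polynomial.induction_on' with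
  | add P Q hP hQ =>
    rw [map_add, map_add, add_sub_add_comm]
    exact Commute.isNilpotent_add (Commute.all _ _) hP hQ
  | monomial k c =>
    rw [← Polynomial.C_mul_X_pow_eq_monomial, map_mul, map_pow, AlphaPn.mk_X, map_mul, map_pow]
    have e1 : epsA p R (AlphaPn.mk p 1 R (Polynomial.C c)) = AlphaPn.mk p 1 R (Polynomial.C c) := by
      rw [show AlphaPn.mk p 1 R (Polynomial.C c) = algebraMap R _ c from (AlphaPn.mk p 1 R).commutes c]
      exact congrArg (algebraMap R (A1 p R)) ((AlphaPn.counitAlg p 1 R).commutes c)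
    have e2 : epsA p R (AlphaPn.x p 1 R) = 0 := by
      show algebraMap R (A1 p R) (AlphaPn.counitAlg p 1 R (AlphaPn.x p 1 R)) = 0
      rw [show AlphaPn.counitAlg p 1 R (AlphaPn.x p 1 R) = 0 from AlphaPn.lift_x _ _, map_zero]
    rw [e1, e2]
    rcases Nat.eq_zero_or_pos k with rfl | hk
    · simp
    · rw [zero_pow hk.ne', mul_zero, sub_zero]
      exact Commute.isNilpotent_mul_left (Commute.all _ _)
        ((show IsNilpotent (AlphaPn.x p 1 R) from ⟨p, x_pow_p⟩).pow_of_pos hk.ne')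

theorem epsA_epsA (a : A1 p R) : epsA p R (epsA p R a) = epsA p R a :=
  congrArg (algebraMap R (A1 p R)) ((AlphaPn.counitAlg p 1 R).commutes (AlphaPn.counitAlg p 1 R a))

theorem epsA_unit (f : A1 p R) :
    IsUnit (((algebraMap (A1 p R) (Localization.Away f)).comp (epsA p R)) f) := by
  have h := ((sub_epsA_nilpotent f).map (algebraMap (A1 p R) (Localization.Away f))).neg
  have h2 := h.isUnit_add_left_of_commute (isUnit_away_self f) (Commute.all _ _)
  rw [map_sub] at h2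
  simpa using h2

/-- The retraction of a standard open onto its restriction to the zero section. -/
def rho (f : A1 p R) : Localization.Away f →+* Localization.Away f :=
  IsLocalization.Away.lift f (g := (algebraMap (A1 p R) (Localization.Away f)).comp (epsA p R))
    (epsA_unit f)

theorem rho_algebraMap (f a : A1 p R) :
    rho f (algebraMap (A1 p R) (Localization.Away f) a) = algebraMap _ _ (epsA p R a) :=
  IsLocalization.Away.lift_eq f (epsA_unit f) a

theorem rho_rho (f : A1 p R) : (rho f).comp (rho f) = rho f :=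
  IsLocalization.ringHom_ext (Submonoid.powers f) (RingHom.ext fun a => by
    rw [RingHom.comp_apply, RingHom.comp_apply, RingHom.comp_apply, rho_algebraMap, rho_algebraMap]
    exact congrArg _ (epsA_epsA a))

theorem sub_rho_nilpotent (f : A1 p R) (z : Localization.Away f) : IsNilpotent (z - rho f z) := by
  let N := Ideal.Quotient.mk (nilradical (Localization.Away f))
  have h : N.comp (rho f) = N := IsLocalization.ringHom_ext (Submonoid.powers f) (RingHom.ext fun a => by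
    simp only [RingHom.comp_apply, rho_algebraMap]
    refine (Ideal.Quotient.eq.2 ?_).symm
    rw [← map_sub]
    exact mem_nilradical.2 ((sub_epsA_nilpotent a).map _))
  exact mem_nilradical.1 (Ideal.Quotient.eq.1 (DFunLike.congr_fun h z).symm)

/-- The structure map of the spectrum of `α_p`'s coordinate ring. -/
abbrev aA (p : ℕ) (R : Type u) [CommRing R] : Spec (CommRingCat.of (A1 p R)) ⟶ base R :=
  Spec.map (CommRingCat.ofHom (algebraMap R (A1 p R))) ≫ 𝟙 (base R)

/-- The retraction on test objects. -/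
abbrev rhoMor (f : A1 p R) :
    oB (A := CommRingCat.of (A1 p R)) (aA p R) (Localization.Away f) ⟶
      oB (A := CommRingCat.of (A1 p R)) (aA p R) (Localization.Away f) :=
  Over.homMk (Spec.map (CommRingCat.ofHom (rho f))) (by
    show Spec.map _ ≫ Spec.map _ ≫ Spec.map _ ≫ 𝟙 _ = Spec.map _ ≫ Spec.map _ ≫ 𝟙 _
    rw [Category.comp_id, ← Spec.map_comp, ← Spec.map_comp]
    refine congrArg Spec.map (CommRingCat.hom_ext (RingHom.ext fun r => ?_))
    refine (rho_algebraMap f (algebraMap R (A1 p R) r)).trans ?_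
    exact congrArg (algebraMap (A1 p R) (Localization.Away f))
      (congrArg (algebraMap R (A1 p R)) ((AlphaPn.counitAlg p 1 R).commutes r)))

variable (y : ptsA p 1 R ⟶ ptsA p 1 R)

theorem coordA_rhoMor (f : A1 p R) :
    rhoMor f ≫ GaExtP.pr (A := CommRingCat.of (A1 p R)) (aA p R) (Localization.Away f) ≫
      aPt (R := R) (AlphaPn.x p 1 R) (AlphaPn.x_pow p 1 R) = (1 : _ ⟶ alpha p 1 R) := by
  refine coordA_injective (Eq.trans ?_ coordA_one.symm)
  rw [coordA_comp, coordA_comp]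
  refine (congrArg (fun z => (rhoMor f).left.appTop ((GaExtP.pr (A := CommRingCat.of (A1 p R))
    (aA p R) (Localization.Away f)).left.appTop z)) (coordA_aPt _ _)).trans ?_
  show (Spec.map (CommRingCat.ofHom (rho f))).appTop
    ((Spec.map (CommRingCat.ofHom (algebraMap (A1 p R) (Localization.Away f)))).appTop
      ((Scheme.ΓSpecIso (CommRingCat.of (A1 p R))).inv (AlphaPn.x p 1 R))) = 0
  have e : ∀ {C D : Type u} [CommRing C] [CommRing D] (φ : C →+* D) (z : C),
      (Spec.map (CommRingCat.ofHom φ)).appTop ((Scheme.ΓSpecIso (CommRingCat.of C)).inv z) =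
        (Scheme.ΓSpecIso (CommRingCat.of D)).inv (φ z) := fun φ z =>
    (ConcreteCategory.congr_hom (Scheme.ΓSpecIso_inv_naturality (CommRingCat.ofHom φ)) z).symm
  rw [e, e, rho_algebraMap]
  have e2 : epsA p R (AlphaPn.x p 1 R) = 0 := by
    show algebraMap R (A1 p R) (AlphaPn.counitAlg p 1 R (AlphaPn.x p 1 R)) = 0
    rw [show AlphaPn.counitAlg p 1 R (AlphaPn.x p 1 R) = 0 from AlphaPn.lift_x _ _, map_zero]
  rw [e2, map_zero]
  exact map_zero _

omit y

theorem exists_lift_alpha {J Q : AbT (base R)} (E : GmExt J Q) (y : ptsA p 1 R ⟶ Q) :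
    ∃ σ, E.πA (oS (R := R) (A1 p R)) σ =
      (y.hom.app (op (oS (R := R) (A1 p R)))).hom (aSec (aPt (AlphaPn.x p 1 R) (AlphaPn.x_pow p 1 R))) := by
  let yA : ∀ T : Over (base R), (ptsA p 1 R).obj.obj (op T) →+ Q.obj.obj (op T) := fun T =>
    (y.hom.app (op T)).hom
  have yA_map : ∀ {T T' : Over (base R)} (g : T' ⟶ T) (x : T ⟶ alpha p 1 R),
      yA T' (aSec (g ≫ x)) = rA Q g (yA T (aSec x)) := fun g x =>
    ConcreteCategory.congr_hom (y.hom.naturality g.op) (aSec x)
  obtain ⟨κ, _, f, hspan, t, ht⟩ := exists_standard_lifts (A := CommRingCat.of (A1 p R)) (aA p R) E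
    (yA _ (aSec (aPt (AlphaPn.x p 1 R) (AlphaPn.x_pow p 1 R))))
  have h0 : ∀ i, E.πA _ (rA J (rhoMor (f i)) (t i)) = 0 := fun i => by
    rw [E.πA_map, ht, rA_comp, ← yA_map, Category.assoc, coordA_rhoMor]
    exact map_zero (yA _)
  have he : ∀ i, ∃ e, E.iA _ e = rA J (rhoMor (f i)) (t i) := fun i => (E.exact _ _).1 (h0 i)
  choose e he using he
  obtain ⟨t', t'_def⟩ : ∃ t' : ∀ i, J.obj.obj (op (oB (A := CommRingCat.of (A1 p R)) (aA p R)
      (Localization.Away (f i)))), ∀ i, t' i = t i - E.iA _ (e i) := ⟨_, fun _ => rfl⟩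
  have ht' : ∀ i, E.πA _ (t' i) = rA Q (GaExtP.pr (A := CommRingCat.of (A1 p R)) (aA p R) _)
      (yA _ (aSec (aPt (AlphaPn.x p 1 R) (AlphaPn.x_pow p 1 R)))) := fun i => by
    rw [t'_def, map_sub, E.πA_iA, sub_zero, ht]
  have hz : ∀ i, rA J (rhoMor (f i)) (t' i) = 0 := fun i => by
    rw [t'_def, map_sub, ← E.iA_map, ← he, sub_eq_zero]
    refine congrArg (E.iA _) (E.inj _ ?_)
    show E.iA _ _ = E.iA _ _
    rw [E.iA_map, he, rA_comp]
    refine congrArg (fun φ => rA J φ (t i)) (Over.OverMorphism.ext ?_)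
    show Spec.map _ = Spec.map _ ≫ Spec.map _
    rw [← Spec.map_comp]
    exact congrArg Spec.map (CommRingCat.hom_ext (rho_rho (f i)).symm)
  have hd : ∀ i j, ∃ d, E.iA (oB (A := CommRingCat.of (A1 p R)) (aA p R) (Localization.Away (f i * f j))) d =
      rA J (oMor (A := CommRingCat.of (A1 p R)) (aA p R) (mL (f i) (f j))) (t' i) -
        rA J (oMor (A := CommRingCat.of (A1 p R)) (aA p R) (mR (f i) (f j))) (t' j) := fun i j =>
    (E.exact _ _).1 (by
      show E.πA _ _ = 0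
      rw [map_sub, E.πA_map, E.πA_map, ht', ht', rA_comp, rA_comp, oMor_pr, oMor_pr, sub_self])
  choose d hd using hd
  have hρ : ∀ i j, rho (f i * f j) (toU _ _ (d i j)).1 = 1 := by
    intro i j
    have hzero : rA (gm (base R)) (rhoMor (f i * f j)) (d i j) = 0 := by
      refine E.inj _ ?_
      show E.iA _ _ = E.iA _ _
      rw [map_zero, E.iA_map, hd, map_sub, rA_comp, rA_comp]
      have e1 : rhoMor (f i * f j) ≫ oMor (A := CommRingCat.of (A1 p R)) (aA p R) (mL (f i) (f j)) =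
          oMor (A := CommRingCat.of (A1 p R)) (aA p R) (mL (f i) (f j)) ≫ rhoMor (f i) :=
        Over.OverMorphism.ext (by
          show Spec.map _ ≫ Spec.map _ = Spec.map _ ≫ Spec.map _
          rw [← Spec.map_comp, ← Spec.map_comp]
          refine congrArg Spec.map (CommRingCat.hom_ext (IsLocalization.ringHom_ext (Submonoid.powers (f i))
            (RingHom.ext fun a => ?_)))
          show rho (f i * f j) (mL (f i) (f j) (algebraMap (A1 p R) _ a)) =
            mL (f i) (f j) (rho (f i) (algebraMap (A1 p R) _ a))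
          rw [AlgHom.commutes, rho_algebraMap, rho_algebraMap, AlgHom.commutes])
      have e2 : rhoMor (f i * f j) ≫ oMor (A := CommRingCat.of (A1 p R)) (aA p R) (mR (f i) (f j)) =
          oMor (A := CommRingCat.of (A1 p R)) (aA p R) (mR (f i) (f j)) ≫ rhoMor (f j) :=
        Over.OverMorphism.ext (by
          show Spec.map _ ≫ Spec.map _ = Spec.map _ ≫ Spec.map _
          rw [← Spec.map_comp, ← Spec.map_comp]
          refine congrArg Spec.map (CommRingCat.hom_ext (IsLocalization.ringHom_ext (Submonoid.powers (f j))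
            (RingHom.ext fun a => ?_)))
          show rho (f i * f j) (mR (f i) (f j) (algebraMap (A1 p R) _ a)) =
            mR (f i) (f j) (rho (f j) (algebraMap (A1 p R) _ a))
          rw [AlgHom.commutes, rho_algebraMap, rho_algebraMap, AlgHom.commutes])
      rw [e1, e2, ← rA_comp, ← rA_comp, hz, hz, map_zero, map_zero, sub_zero]
    have h1 : ∀ z, (toU (A := CommRingCat.of (A1 p R)) (aA p R) (Localization.Away (f i * f j))
        (rA (gm (base R)) (rhoMor (f i * f j)) z)).1 = rho (f i * f j) (toU _ _ z).1 := fun z => by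
      show (Scheme.ΓSpecIso (CommRingCat.of (Localization.Away (f i * f j)))).hom (gmVal (rA (gm (base R)) (rhoMor (f i * f j)) z)).1 = _
      rw [gmVal_map]
      exact ConcreteCategory.congr_hom
        (Scheme.ΓSpecIso_naturality (CommRingCat.ofHom (rho (f i * f j)))) (gmVal z).1
    rw [← h1, hzero, show (0 : (gm (base R)).obj.obj (op (oB (A := CommRingCat.of (A1 p R)) (aA p R)
      (Localization.Away (f i * f j))))) = 0 • 0 from (zero_smul ℕ _).symm, toU_nsmul, pow_zero]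
    rfl
  have hcoc : IsUCocycle (B := CommRingCat.of (A1 p R)) f fun i j => toU (aA p R) _ (d i j) := by
    intro i j k C _ _ α β c'
    show α (toU (aA p R) _ (d i j)).1 * β (toU (aA p R) _ (d j k)).1 = c' (toU (aA p R) _ (d i k)).1
    rw [← toU_map, ← toU_map, ← toU_map, ← Units.val_mul, ← toU_add]
    refine congrArg (fun z => (toU (aA p R) C z).1) (E.inj _ ?_)
    show E.iA _ _ = E.iA _ _
    rw [map_add, E.iA_map, E.iA_map, E.iA_map, hd, hd, hd, map_sub, map_sub, map_sub,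
      rA_comp, rA_comp, rA_comp, rA_comp, rA_comp, rA_comp, oMor_comp, oMor_comp, oMor_comp,
      oMor_comp, oMor_comp, oMor_comp,
      algHom_eq (f i) (α.comp (mL _ _)) (c'.comp (mL _ _)),
      algHom_eq (f j) (α.comp (mR _ _)) (β.comp (mL _ _)),
      algHom_eq (f k) (β.comp (mR _ _)) (c'.comp (mR _ _))]
    abel
  obtain ⟨m, hm⟩ := exists_coboundary_of_unipotent hspan hcoc (fun i j => by
    have h := sub_rho_nilpotent (f i * f j) (toU (aA p R) _ (d i j)).1
    rwa [hρ] at h)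
  refine exists_glue (A := CommRingCat.of (A1 p R)) (aA p R) E _ f hspan
    (fun i => t' i - E.iA _ (secU _ (m i)))
    (fun i => by rw [map_sub, E.πA_iA, sub_zero, ht']) fun i j => ?_
  have key : rA (gm (base R)) (oMor (A := CommRingCat.of (A1 p R)) (aA p R) (mL (f i) (f j)))
      (secU _ (m i)) =
      d i j + rA (gm (base R)) (oMor (A := CommRingCat.of (A1 p R)) (aA p R) (mR (f i) (f j)))
        (secU _ (m j)) := by
    refine toU_injective _ (Units.ext ?_)
    rw [toU_add, Units.val_mul, toU_map, toU_map, toU_secU, toU_secU]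
    exact (hm i j).symm
  rw [map_sub, map_sub, ← E.iA_map, ← E.iA_map, key, map_add, hd]
  abel

theorem ofSp_aPt_x :
    ofSp (A1 p R) ≫ aPt (R := R) (AlphaPn.x p 1 R) (AlphaPn.x_pow p 1 R) = 𝟙 (alpha p 1 R) := by
  rw [aPt, ← Category.assoc,
    show ofSp (A1 p R) ≫ toSp (R := R) (A1 p R) = 𝟙 _ from Over.OverMorphism.ext (Category.id_comp _),
    Category.id_comp]
  have e : AlphaPn.lift p 1 R (AlphaPn.x p 1 R) (AlphaPn.x_pow p 1 R) = AlgHom.id R (A1 p R) :=
    AlphaPn.algHom_ext (AlphaPn.lift_x _ _)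
  rw [e]
  exact spMap_id

theorem ofSp_sMor {C : Type u} [CommRing C] [Algebra R C] (c : C) (hc : c ^ (p ^ 1) = 0) :
    aPt (R := R) c hc ≫ ofSp (A1 p R) = sMor (AlphaPn.lift p 1 R c hc) := by
  refine Over.OverMorphism.ext ?_
  rw [Over.comp_left]
  simp only [aPt, Over.comp_left]
  exact (Category.comp_id _).trans (Category.id_comp _)

theorem pow_one_eq_zero {C : Type u} [CommRing C] {c : C} (h : c ^ p = 0) : c ^ (p ^ 1) = 0 := by
  rwa [pow_one]

theorem exists_hom_of_add {J : AbT (base R)} (σ : J.obj.obj (op (oS (R := R) (A1 p R))))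
    (hadd : rA J (sMor (AlphaPn.lift p 1 R (tv p R 2 0 + tv p R 2 1)
        (pow_one_eq_zero (add_pow_eq_zero (tv_pow 0) (tv_pow 1))))) σ =
      rA J (sMor (AlphaPn.lift p 1 R (tv p R 2 0) (pow_one_eq_zero (tv_pow 0)))) σ +
        rA J (sMor (AlphaPn.lift p 1 R (tv p R 2 1) (pow_one_eq_zero (tv_pow 1)))) σ) :
    ∃ τ : ptsA p 1 R ⟶ J, ∀ (T : Over (base R)) (g : T ⟶ alpha p 1 R),
      (τ.hom.app (op T)).hom (aSec g) = rA J (g ≫ ofSp (A1 p R)) σ := by
  have hmul : ∀ (T : Over (base R)) (g h : T ⟶ alpha p 1 R),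
      rA J ((g * h) ≫ ofSp (A1 p R)) σ =
        rA J (g ≫ ofSp (A1 p R)) σ + rA J (h ≫ ofSp (A1 p R)) σ := by
    intro T g h
    have hg0 : coordA g ^ p = 0 := by
      have h := coordA_pow g
      rwa [pow_one] at h
    have hh0 : coordA h ^ p = 0 := by
      have h := coordA_pow h
      rwa [pow_one] at h
    letI : Algebra R Γ(T.left, ⊤) := (strT T).hom.toAlgebra
    obtain ⟨θ, t0, t1⟩ : ∃ θ : Tr p R 2 →ₐ[R] Γ(T.left, ⊤),
        θ (tv p R 2 0) = coordA g ∧ θ (tv p R 2 1) = coordA h :=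
      ⟨tLift ![coordA g, coordA h] (fun i => by fin_cases i <;> assumption),
        tLift_tv _ _ 0, tLift_tv _ _ 1⟩
    obtain ⟨m, hm⟩ := exists_factor (p := p) (n := 1) θ.toRingHom (RingHom.ext fun r => θ.commutes r)
    have hs : ∀ (c : Tr p R 2) (hc : c ^ (p ^ 1) = 0) (k : T ⟶ alpha p 1 R), θ c = coordA k →
        rA J (k ≫ ofSp (A1 p R)) σ = rA J m (rA J (sMor (AlphaPn.lift p 1 R c hc)) σ) := by
      intro c hc k hk
      have hmk : k = m ≫ aPt c hc := coordA_injective ((hm c hc).trans hk).symm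
      rw [hmk, rA_comp, Category.assoc, ofSp_sMor]
    rw [hs _ (pow_one_eq_zero (tv_pow 0)) g t0, hs _ (pow_one_eq_zero (tv_pow 1)) h t1,
      hs _ (pow_one_eq_zero (add_pow_eq_zero (tv_pow 0) (tv_pow 1))) (g * h) (by
        rw [map_add, t0, t1, coordA_mul]), hadd, map_add]
  exact ⟨⟨{
    app := fun T => AddCommGrpCat.ofHom (AddMonoidHom.mk'
      (fun z => rA J (Additive.toMul (ULift.down z) ≫ ofSp (A1 p R)) σ) fun z w => hmul T.unop _ _)
    naturality := fun T T' g => AddCommGrpCat.ext fun z => by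
      refine Eq.trans ?_ (rA_comp J g.unop (Additive.toMul (ULift.down z) ≫ ofSp (A1 p R)) σ).symm
      exact congrArg (fun φ => rA J φ σ) (Category.assoc _ _ _) }⟩, fun T g => rfl⟩

theorem exists_hom_lift_alpha (hF : Function.Surjective (frobenius R p)) {J Q : AbT (base R)}
    (E : GmExt J Q) (y : ptsA p 1 R ⟶ Q) : ∃ τ : ptsA p 1 R ⟶ J, τ ≫ E.π = y := by
  let yA : ∀ T : Over (base R), (ptsA p 1 R).obj.obj (op T) →+ Q.obj.obj (op T) := fun T =>
    (y.hom.app (op T)).hom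
  have yA_map : ∀ {T T' : Over (base R)} (g : T' ⟶ T) (x : T ⟶ alpha p 1 R),
      yA T' (aSec (g ≫ x)) = rA Q g (yA T (aSec x)) := fun g x =>
    ConcreteCategory.congr_hom (y.hom.naturality g.op) (aSec x)
  obtain ⟨σ₀, hσ₀⟩ := exists_lift_alpha E y
  let Y := oS (R := R) (A1 p R)
  have h1 : ∀ {C : Type u} [CommRing C] {c : C}, c ^ p = 0 → c ^ (p ^ 1) = 0 := fun h => by
    rwa [pow_one]
  let val : J.obj.obj (op Y) → ∀ {C : Type u} [CommRing C] [Algebra R C] (c : C), c ^ p = 0 →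
      J.obj.obj (op (oS (R := R) C)) := fun σ {C} _ _ c hc =>
    rA J (sMor (AlphaPn.lift p 1 R c (h1 hc))) σ
  have val_map : ∀ (σ : J.obj.obj (op Y)) {C D : Type u} [CommRing C] [CommRing D] [Algebra R C]
      [Algebra R D] (g : C →ₐ[R] D) (c : C) (hc : c ^ p = 0) (c' : D) (hc' : c' ^ p = 0), g c = c' →
      rA J (sMor g) (val σ c hc) = val σ c' hc' := by
    intro σ C D _ _ _ _ g c hc c' hc' e
    show rA J (sMor g) (rA J _ σ) = rA J _ σ
    rw [rA_comp, oMor_comp]
    refine congrArg (fun φ => rA J (sMor φ) σ) (AlphaPn.algHom_ext ?_)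
    rw [AlgHom.comp_apply, AlphaPn.lift_x, AlphaPn.lift_x, e]
  have val_congr : ∀ (σ : J.obj.obj (op Y)) {C : Type u} [CommRing C] [Algebra R C] {c c' : C}
      (hc : c ^ p = 0) (hc' : c' ^ p = 0), c = c' → val σ c hc = val σ c' hc' := by
    intro σ C _ _ c c' hc hc' e
    subst e
    rfl
  have hval : ∀ {C : Type u} [CommRing C] [Algebra R C] (c : C) (hc : c ^ p = 0),
      E.πA (oS (R := R) C) (val σ₀ c hc) = yA _ (aSec (aPt c (h1 hc))) := by
    intro C _ _ c hc
    show E.πA _ (rA J _ σ₀) = _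
    rw [E.πA_map, hσ₀, ← yA_map, sMor_aPt]
    refine congrArg (fun g => yA _ (aSec g)) ?_
    congr 1
    exact AlphaPn.lift_x c _
  have hdef : ∀ {C : Type u} [CommRing C] [Algebra R C] (c d : C) (hc : c ^ p = 0) (hd : d ^ p = 0)
      (hcd : (c + d) ^ p = 0), ∃ δ,
      E.iA (oS (R := R) C) δ = val σ₀ (c + d) hcd - val σ₀ c hc - val σ₀ d hd := by
    intro C _ _ c d hc hd hcd
    refine (E.exact _ _).1 ?_
    show E.πA (oS (R := R) C) _ = 0
    rw [map_sub, map_sub, hval (c + d) hcd, hval c hc, hval d hd, ← aPt_mul c d (h1 hc) (h1 hd) (h1 hcd),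
      show aSec (aPt (R := R) c (h1 hc) * aPt d (h1 hd)) = aSec (aPt c (h1 hc)) + aSec (aPt d (h1 hd)) from rfl,
      map_add]
    abel
  let c0 : Tr p R 2 := tv p R 2 0
  let c1 : Tr p R 2 := tv p R 2 1
  obtain ⟨δ, hδ⟩ := hdef c0 c1 (tv_pow 0) (tv_pow 1) (add_pow_eq_zero (tv_pow 0) (tv_pow 1))
  let u : (Tr p R 2)ˣ := toU (A := CommRingCat.of R) (𝟙 (base R)) (Tr p R 2) δ
  have key : ∀ (a b : Tr p R 3) (ha : a ^ p = 0) (hb : b ^ p = 0) (δ' : (gm (base R)).obj.obj
      (op (oS (R := R) (Tr p R 3)))),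
      E.iA _ δ' = val σ₀ (a + b) (add_pow_eq_zero ha hb) - val σ₀ a ha - val σ₀ b hb →
      s2 a b ha hb u.1 = (toU (A := CommRingCat.of R) (𝟙 (base R)) (Tr p R 3) δ').1 := by
    intro a b ha hb δ' hδ'
    refine (toU_map (A := CommRingCat.of R) (𝟙 (base R)) (s2 a b ha hb) δ).symm.trans ?_
    refine congrArg (fun z => (toU (A := CommRingCat.of R) (𝟙 (base R)) _ z).1) (E.inj _ ?_)
    show E.iA _ _ = E.iA _ _
    rw [E.iA_map, hδ, hδ', map_sub, map_sub,
      val_map σ₀ (s2 a b ha hb) (c0 + c1) (add_pow_eq_zero (tv_pow 0) (tv_pow 1)) (a + b) (add_pow_eq_zero ha hb) (by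
        rw [map_add, tLift_tv, tLift_tv]; rfl),
      val_map σ₀ (s2 a b ha hb) c0 (tv_pow 0) a ha (tLift_tv _ _ 0),
      val_map σ₀ (s2 a b ha hb) c1 (tv_pow 1) b hb (tLift_tv _ _ 1)]
  have hsymm : s2 (tv p R 2 1) (tv p R 2 0) (tv_pow 1) (tv_pow 0) u.1 = u.1 := by
    refine (toU_map (A := CommRingCat.of R) (𝟙 (base R)) _ δ).symm.trans ?_
    refine congrArg (fun z => (toU (A := CommRingCat.of R) (𝟙 (base R)) _ z).1) (E.inj _ ?_)
    show E.iA _ _ = E.iA _ _
    rw [E.iA_map, hδ, map_sub, map_sub,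
      val_map σ₀ _ (c0 + c1) (add_pow_eq_zero (tv_pow 0) (tv_pow 1)) (c0 + c1) (add_pow_eq_zero (tv_pow 0) (tv_pow 1)) (by
        rw [map_add, tLift_tv, tLift_tv]
        exact add_comm c1 c0),
      val_map σ₀ _ c0 (tv_pow 0) c1 (tv_pow 1) (tLift_tv _ _ 0),
      val_map σ₀ _ c1 (tv_pow 1) c0 (tv_pow 0) (tLift_tv _ _ 1)]
    abel
  let z : Fin 3 → Tr p R 3 := tv p R 3
  obtain ⟨d12, hd12⟩ := hdef (z 1) (z 2) (tv_pow 1) (tv_pow 2) (add_pow_eq_zero (tv_pow 1) (tv_pow 2))
  obtain ⟨d023, hd023⟩ := hdef (z 0) (z 1 + z 2) (tv_pow 0) (add_pow_eq_zero (tv_pow 1) (tv_pow 2))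
    (add_pow_eq_zero (tv_pow 0) (add_pow_eq_zero (tv_pow 1) (tv_pow 2)))
  obtain ⟨d013, hd013⟩ := hdef (z 0 + z 1) (z 2) (add_pow_eq_zero (tv_pow 0) (tv_pow 1)) (tv_pow 2)
    (add_pow_eq_zero (add_pow_eq_zero (tv_pow 0) (tv_pow 1)) (tv_pow 2))
  obtain ⟨d01, hd01⟩ := hdef (z 0) (z 1) (tv_pow 0) (tv_pow 1) (add_pow_eq_zero (tv_pow 0) (tv_pow 1))
  have hcoc := (by
    rw [key _ _ _ _ d12 hd12, key _ _ _ _ d023 hd023, key _ _ _ _ d013 hd013, key _ _ _ _ d01 hd01,
      ← Units.val_mul, ← Units.val_mul, ← toU_add, ← toU_add]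
    refine congrArg (fun w => (toU (A := CommRingCat.of R) (𝟙 (base R)) (Tr p R 3) w).1) (E.inj _ ?_)
    show E.iA _ _ = E.iA _ _
    rw [map_add, map_add, hd12, hd023, hd013, hd01, val_congr σ₀ (add_pow_eq_zero (add_pow_eq_zero (tv_pow 0) (tv_pow 1)) (tv_pow 2))
      (add_pow_eq_zero (tv_pow 0) (add_pow_eq_zero (tv_pow 1) (tv_pow 2))) (add_assoc (z 0) (z 1) (z 2))]
    abel :
    s2 (tv p R 3 1) (tv p R 3 2) (tv_pow 1) (tv_pow 2) u.1 *
        s2 (tv p R 3 0) (tv p R 3 1 + tv p R 3 2) (tv_pow 0) (add_pow_eq_zero (tv_pow 1) (tv_pow 2)) u.1 =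
      s2 (tv p R 3 0 + tv p R 3 1) (tv p R 3 2) (add_pow_eq_zero (tv_pow 0) (tv_pow 1)) (tv_pow 2) u.1 *
        s2 (tv p R 3 0) (tv p R 3 1) (tv_pow 0) (tv_pow 1) u.1)
  obtain ⟨f, hf, hsol⟩ := exists_trunc_splitting hF u hsymm hcoc
  let toA : Tr p R 1 →ₐ[R] A1 p R := tLift (fun _ => AlphaPn.x p 1 R) (fun _ => x_pow_p)
  have hfA : IsUnit (toA f) := hf.map toA
  let σ := σ₀ - E.iA Y (secU (A := CommRingCat.of R) (𝟙 (base R)) hfA.unit)
  have hσ : E.πA Y σ = yA Y (aSec (aPt (AlphaPn.x p 1 R) (AlphaPn.x_pow p 1 R))) := by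
    show E.πA Y (σ₀ - _) = _
    rw [map_sub, E.πA_iA, sub_zero]
    exact hσ₀
  let w : ∀ c : Tr p R 2, c ^ p = 0 → (gm (base R)).obj.obj (op (oS (R := R) (Tr p R 2))) := fun c hc =>
    rA (gm (base R)) (sMor (AlphaPn.lift p 1 R c (h1 hc)))
      (secU (A := CommRingCat.of R) (𝟙 (base R)) hfA.unit)
  have hadd : val σ (c0 + c1) (add_pow_eq_zero (tv_pow 0) (tv_pow 1)) =
      val σ c0 (tv_pow 0) + val σ c1 (tv_pow 1) := by
    have hv : ∀ c hc, val σ c hc = val σ₀ c hc - E.iA _ (w c hc) := fun c hc => by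
      show rA J _ (σ₀ - _) = rA J _ σ₀ - _
      rw [map_sub, E.iA_map]
    have e : ∀ c hc, (toU (A := CommRingCat.of R) (𝟙 (base R)) (Tr p R 2) (w c hc)).1 = s1 c hc f :=
      fun c hc => by
      refine (toU_map _ _ _).trans ?_
      rw [toU_secU]
      refine DFunLike.congr_fun (tr_algHom_ext (f := (AlphaPn.lift p 1 R c (h1 hc)).comp toA)
        (g := s1 c hc) fun i => ?_) f
      rw [AlgHom.comp_apply, tLift_tv, tLift_tv, AlphaPn.lift_x]
    have hs : w (c0 + c1) (add_pow_eq_zero (tv_pow 0) (tv_pow 1)) =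
        w c0 (tv_pow 0) + w c1 (tv_pow 1) + δ := by
      refine toU_injective (A := CommRingCat.of R) (𝟙 (base R)) (Units.ext ?_)
      rw [toU_add, toU_add, Units.val_mul, Units.val_mul, e, e, e]
      exact hsol
    rw [hv _ (add_pow_eq_zero (tv_pow 0) (tv_pow 1)), hv c0 (tv_pow 0), hv c1 (tv_pow 1), hs, map_add, map_add, hδ]
    abel
  obtain ⟨τ, hτ⟩ := exists_hom_of_add σ hadd
  refine ⟨τ, Sheaf.hom_ext (NatTrans.ext (funext fun T => AddCommGrpCat.ext fun z => ?_))⟩
  show E.πA T.unop ((τ.hom.app T).hom (aSec (Additive.toMul (ULift.down z)))) = yA T.unop (aSec (Additive.toMul (ULift.down z)))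
  rw [hτ T.unop, E.πA_map, hσ, ← yA_map, Category.assoc, ofSp_aPt_x, Category.comp_id]

theorem subsingleton_ext_alpha_one (hF : Function.Surjective (frobenius R p)) :
    Subsingleton (Ext (ptsA p 1 R) (gm (base R)) 1) := by
  refine subsingleton_of_forall_eq 0 fun x => ?_
  let P := Classical.arbitrary (InjectivePresentation (gm (base R)))
  have hE := P.shortExact_shortComplex
  obtain ⟨z, hz⟩ := Ext.covariant_sequence_exact₁ (ptsA p 1 R) hE x
    ((Ext.eq_zero_of_injective (I := P.J) _)) (n₀ := 0) rfl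
  obtain ⟨y, rfl⟩ := (Ext.mk₀_bijective _ _).2 z
  obtain ⟨τ, hτ⟩ := exists_hom_lift_alpha hF (GmExt.ofShortExact hE (Iso.refl _)) y
  rw [← hz, ← hτ, ← Ext.mk₀_comp_mk₀, Ext.comp_assoc_of_second_deg_zero]
  show (Ext.mk₀ τ).comp ((Ext.mk₀ P.shortComplex.g).comp hE.extClass _) _ = 0
  rw [hE.comp_extClass, Ext.comp_zero]

end Groth.Agent.AlphaExt

end
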