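import Groth.Agent.GaExtP.Hom
import Groth.Agent.GrpSchLib.AffineHopf
import Groth.Prelude.Def_AlphaPn
import Mathlib.RingTheory.Bialgebra.Convolution

/-!
# Points of `α_{p^n}`
-/

set_option autoImplicit false

universe u

open CategoryTheory CategoryTheory.Limits AlgebraicGeometry Opposite TensorProduct
open scoped CategoryTheory.MonObj

noncomputable section

namespace Groth.Agent.AlphaExt

open Groth.Agent.GaExtP Groth.Agent.GrpSchLib.AffineHopf Groth.Agent.FppfPic

variable (p : ℕ) [Fact p.Prime] (n : ℕ) (R : Type u) [CommRing R] [CharP R p]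

/-- The group scheme `α_{p^n}`. -/
abbrev alpha : Over (base R) := sp R (AlphaPn.A p n R)

variable {p n R}

/-- The identification of the two forms of the spectrum of an algebra. -/
abbrev toSp (C : Type u) [CommRing C] [Algebra R C] : oS (R := R) C ⟶ sp R C :=
  Over.homMk (𝟙 _) ((Category.id_comp _).trans (Category.comp_id _).symm)

/-- The identification of the two forms of the spectrum of an algebra. -/
abbrev ofSp (C : Type u) [CommRing C] [Algebra R C] : sp R C ⟶ oS (R := R) C :=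
  Over.homMk (𝟙 _) ((Category.id_comp _).trans (Category.comp_id _))

theorem sMor_toSp {C D : Type u} [CommRing C] [CommRing D] [Algebra R C] [Algebra R D] (g : C →ₐ[R] D) :
    sMor g ≫ toSp C = toSp D ≫ spMap g :=
  Over.OverMorphism.ext ((Category.comp_id _).trans (Category.id_comp _).symm)

/-- The point of an element. -/
def aPt {C : Type u} [CommRing C] [Algebra R C] (c : C) (hc : c ^ (p ^ n) = 0) :
    oS (R := R) C ⟶ alpha p n R :=
  toSp C ≫ spMap (AlphaPn.lift p n R c hc)

theorem sMor_aPt {C D : Type u} [CommRing C] [CommRing D] [Algebra R C] [Algebra R D] (g : C →ₐ[R] D)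
    (c : C) (hc : c ^ (p ^ n) = 0) :
    sMor g ≫ aPt (p := p) (n := n) c hc = aPt (g c) (by rw [← map_pow, hc, map_zero]) := by
  rw [aPt, ← Category.assoc, sMor_toSp, Category.assoc, spMap_comp]
  refine congrArg (fun f => toSp D ≫ spMap f) (AlphaPn.algHom_ext ?_)
  rw [AlgHom.comp_apply, AlphaPn.lift_x, AlphaPn.lift_x]

theorem aPt_mul {C : Type u} [CommRing C] [Algebra R C] (c d : C) (hc : c ^ (p ^ n) = 0)
    (hd : d ^ (p ^ n) = 0) (hcd : (c + d) ^ (p ^ n) = 0) :
    aPt (R := R) c hc * aPt d hd = aPt (c + d) hcd := by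
  rw [aPt, aPt, aPt, ← MonObj.comp_mul, spMap_mul]
  refine congrArg (fun f => toSp C ≫ spMap f) (AlphaPn.algHom_ext ?_)
  show (WithConv.toConv (AlphaPn.lift p n R c hc) * WithConv.toConv (AlphaPn.lift p n R d hd)) (AlphaPn.x p n R) = _
  rw [AlgHom.convMul_apply, AlphaPn.comul_x, map_add, Algebra.TensorProduct.lift_tmul,
    Algebra.TensorProduct.lift_tmul]
  simp only [WithConv.ofConv_toConv, map_add, map_one, Algebra.TensorProduct.lmul'_apply_tmul,
    AlphaPn.lift_x, mul_one, _root_.one_mul]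

/-- The coordinate ring map of a point. -/
def thA {T : Over (base R)} (g : T ⟶ alpha p n R) : AlphaPn.A p n R →+* Γ(T.left, ⊤) :=
  ((Scheme.ΓSpecIso (CommRingCat.of (AlphaPn.A p n R))).inv ≫ g.left.appTop).hom

theorem thA_algebraMap {T : Over (base R)} (g : T ⟶ alpha p n R) :
    (thA g).comp (algebraMap R (AlphaPn.A p n R)) = (strT T).hom := by
  refine RingHom.ext fun r => ?_
  have hw : g.left ≫ (alpha p n R).hom = T.hom := Over.w g
  have h2 := congrArg (fun φ : T.left ⟶ base R =>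
    φ.appTop ((Scheme.ΓSpecIso (CommRingCat.of R)).inv r)) hw
  refine Eq.trans ?_ h2
  show _ = (g.left ≫ Spec.map (CommRingCat.ofHom (algebraMap R (AlphaPn.A p n R)))).appTop _
  rw [GmPts.appTop_comp_apply]
  exact congrArg g.left.appTop (ConcreteCategory.congr_hom
    (Scheme.ΓSpecIso_inv_naturality (CommRingCat.ofHom (algebraMap R (AlphaPn.A p n R)))) r)

/-- The coordinate of a point. -/
def coordA {T : Over (base R)} (g : T ⟶ alpha p n R) : Γ(T.left, ⊤) := thA g (AlphaPn.x p n R)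

theorem coordA_pow {T : Over (base R)} (g : T ⟶ alpha p n R) : coordA g ^ (p ^ n) = 0 := by
  rw [coordA, ← map_pow, AlphaPn.x_pow, map_zero]

theorem coordA_comp {T T' : Over (base R)} (k : T' ⟶ T) (g : T ⟶ alpha p n R) :
    coordA (k ≫ g) = k.left.appTop (coordA g) := by
  simp only [coordA, thA, Over.comp_left, CommRingCat.hom_comp, RingHom.comp_apply]
  exact GmPts.appTop_comp_apply k.left g.left _

theorem coordA_injective {T : Over (base R)} :
    Function.Injective (coordA : (T ⟶ alpha p n R) → Γ(T.left, ⊤)) := by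
  intro g g' h
  refine Over.OverMorphism.ext ?_
  refine (ΓSpec.adjunction.homEquiv T.left (op (CommRingCat.of (AlphaPn.A p n R)))).symm.injective ?_
  rw [Adjunction.homEquiv_counit, Adjunction.homEquiv_counit, ΓSpec.adjunction_counit_app]
  change ((Scheme.ΓSpecIso _).inv ≫ g.left.appTop).op = ((Scheme.ΓSpecIso _).inv ≫ g'.left.appTop).op
  congr 1
  refine CommRingCat.hom_ext (RingHom.ext fun a => ?_)
  obtain ⟨P, rfl⟩ := AlphaPn.mk_surjective p n R a
  refine DFunLike.congr_fun (Polynomial.ringHom_ext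
    (f := (thA g).comp (AlphaPn.mk p n R).toRingHom)
    (g := (thA g').comp (AlphaPn.mk p n R).toRingHom) (fun r => ?_) ?_) P
  · show thA g (AlphaPn.mk p n R (algebraMap R (Polynomial R) r)) =
      thA g' (AlphaPn.mk p n R (algebraMap R (Polynomial R) r))
    rw [AlgHom.commutes]
    exact (DFunLike.congr_fun (thA_algebraMap g) r).trans (DFunLike.congr_fun (thA_algebraMap g') r).symm
  · show thA g (AlphaPn.mk p n R Polynomial.X) = thA g' (AlphaPn.mk p n R Polynomial.X)
    rw [AlphaPn.mk_X]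
    exact h

theorem coordA_aPt {C : Type u} [CommRing C] [Algebra R C] (c : C) (hc : c ^ (p ^ n) = 0) :
    coordA (aPt (R := R) (p := p) c hc) = (Scheme.ΓSpecIso (CommRingCat.of C)).inv c := by
  rw [aPt, coordA_comp]
  show Scheme.Hom.appTop (𝟙 (Spec (CommRingCat.of C))) (coordA (spMap (AlphaPn.lift p n R c hc))) = _
  rw [Scheme.Hom.id_appTop]
  show coordA (spMap (AlphaPn.lift p n R c hc)) = _
  refine (ConcreteCategory.congr_hom (Scheme.ΓSpecIso_inv_naturality
    (CommRingCat.ofHom (AlphaPn.lift p n R c hc).toRingHom)) (AlphaPn.x p n R)).symm.trans ?_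
  exact congrArg (Scheme.ΓSpecIso (CommRingCat.of C)).inv.hom (AlphaPn.lift_x (p := p) (n := n) (R := R) c hc)

theorem exists_factor {C : Type u} [CommRing C] [Algebra R C] {T : Over (base R)} (θ : C →+* Γ(T.left, ⊤))
    (hθ : θ.comp (algebraMap R C) = (strT T).hom) :
    ∃ m : T ⟶ oS (R := R) C, ∀ c (hc : c ^ (p ^ n) = 0), coordA (m ≫ aPt (p := p) (n := n) c hc) = θ c := by
  obtain ⟨m, hm⟩ := exists_toS T θ hθ
  refine ⟨m, fun c hc => ?_⟩
  rw [coordA_comp, coordA_aPt, ← hm c, GrpSchLib.GaPts.gaFn_comp, GaExtP.gaFn_pt]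

theorem natCast_gamma (T : Over (base R)) : (p : Γ(T.left, ⊤)) = 0 := by
  rw [← map_natCast (strT T).hom, CharP.cast_eq_zero R p, map_zero]

theorem coordA_mul {T : Over (base R)} (g h : T ⟶ alpha p n R) :
    coordA (g * h) = coordA g + coordA h := by
  let C := AlphaPn.A p n R ⊗[R] AlphaPn.A p n R
  let x₁ : C := AlphaPn.x p n R ⊗ₜ[R] (1 : AlphaPn.A p n R)
  let x₂ : C := (1 : AlphaPn.A p n R) ⊗ₜ[R] AlphaPn.x p n R
  letI : Algebra R Γ(T.left, ⊤) := (strT T).hom.toAlgebra
  let a₁ : AlphaPn.A p n R →ₐ[R] Γ(T.left, ⊤) :=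
    { thA g with commutes' := fun r => DFunLike.congr_fun (thA_algebraMap g) r }
  let a₂ : AlphaPn.A p n R →ₐ[R] Γ(T.left, ⊤) :=
    { thA h with commutes' := fun r => DFunLike.congr_fun (thA_algebraMap h) r }
  let θ : C →ₐ[R] Γ(T.left, ⊤) := Algebra.TensorProduct.productMap a₁ a₂
  obtain ⟨m, hm⟩ := exists_factor (p := p) (n := n) θ.toRingHom
    (RingHom.ext fun r => θ.commutes r)
  have h₁ : x₁ ^ (p ^ n) = 0 := by
    rw [Algebra.TensorProduct.tmul_pow, AlphaPn.x_pow, TensorProduct.zero_tmul]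
  have h₂ : x₂ ^ (p ^ n) = 0 := by
    rw [Algebra.TensorProduct.tmul_pow, AlphaPn.x_pow, TensorProduct.tmul_zero]
  have hg : m ≫ aPt x₁ h₁ = g := coordA_injective (by
    rw [hm]
    show a₁ (AlphaPn.x p n R) * a₂ 1 = _
    rw [map_one, _root_.mul_one]
    rfl)
  have hh : m ≫ aPt x₂ h₂ = h := coordA_injective (by
    rw [hm]
    show a₁ 1 * a₂ (AlphaPn.x p n R) = _
    rw [map_one, _root_.one_mul]
    rfl)
  have hs : (x₁ + x₂) ^ (p ^ n) = 0 := AlphaPn.add_pow_eq_zero p n R (Commute.all _ _) h₁ h₂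
  have e : g * h = m ≫ aPt (x₁ + x₂) hs := by
    rw [← aPt_mul x₁ x₂ h₁ h₂ hs, MonObj.comp_mul, hg, hh]
  rw [e, hm]
  conv_rhs => rw [← hg, ← hh, hm, hm]
  exact map_add θ x₁ x₂

theorem coordA_one {T : Over (base R)} : coordA (1 : T ⟶ alpha p n R) = 0 := by
  have h := coordA_mul (1 : T ⟶ alpha p n R) 1
  rw [_root_.mul_one] at h
  exact left_eq_add.1 h

end Groth.Agent.AlphaExt

end
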